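import Cfsg.Agent.Lib.KnownSimple.MultM.M23V.ValC0

/-!
# The relations between the relators
-/

set_option autoImplicit false

namespace Cfsg.Agent.Lib.KnownSimple.MultM.M23V

open Cfsg Cfsg.Spor Cfsg.Agent.Lib.Compute Cfsg.Agent.Lib.KnownSimple.PE Cfsg.Agent.Lib.KnownSimple.Leech
open Cfsg.Agent.Lib.KnownSimple Cfsg.Agent.Lib.KnownSimple.AutRigid Cfsg.Agent.Lib.KnownSimple.Pres
open Cfsg.Agent.Lib.KnownSimple.MultC
open Cfsg.Agent.Lib.Golay Cfsg.Agent.Lib.KnownSimple.CodeCalc Cfsg.Agent.Lib.KnownSimple.MathieuData Cfsg.Agent.Lib.KnownSimple.MathieuFacts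
open Cfsg.Agent.Lib.KnownSimple.MathieuGen Cfsg.Agent.Lib.KnownSimple.MathieuOut Cfsg.Agent.Lib.KnownSimple.MultM

theorem hEF : ∀ e, e < n * d → chkEdgeG 1099511627776 mskM cKK C.τ d n RL 37 20 31 (lookP parT) (lookP genT) (lg 0 peL) tv e = true := by
  have h : allBelow fe 7728 = true :=
    allBelow_of_pad (m := 8) (s := 1024) (by norm_num) (fun c hc => by
    interval_cases c
    · exact ve0
    · exact ve1
    · exact ve2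
    · exact ve3
    · exact ve4
    · exact ve5
    · exact ve6
    · exact ve7
  )
  intro e he
  exact (allBelow_iff _ _).1 h e he
set_option maxHeartbeats 0 in
set_option maxRecDepth 100000 in
theorem hLn : allBelow (fun q => Nat.blt (((lg [] RL q).length + 1) * 16777216) 1099511627776) 37 = true := by decide +kernel
theorem hE : ∀ e, e < n * d → chkEdge C.τ d n RL 37 20 31 (lookP parT) (lookP genT) (lg 0 peL) (toV 1099511627776 51 tv) e = true :=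
  chkEdge_of_G (by norm_num) (good_of_mask (W := 40) (b := 24) (by norm_num) (by norm_num) (by norm_num) (by decide +kernel) (by decide +kernel))
    (fun l i hl hi => C.hlt l i hl hi) (fun q _ => words_lg hokR q) (len_of_chk hLn) hEF
set_option maxRecDepth 100000 in
/-- The relations. -/
def rowsF : List (ℕ × ℕ × List ℤ) := [(0,23,[.ofNat 0,.ofNat 0,.ofNat 0,.ofNat 0,.ofNat 0,.ofNat 0,.ofNat 0,.ofNat 0,.ofNat 1,.ofNat 0,.ofNat 0,.ofNat 1,.ofNat 0,.ofNat 0,.ofNat 0,.ofNat 0,.ofNat 0,.ofNat 0,.ofNat 0,.ofNat 0,.ofNat 0,.ofNat 0,.ofNat 0,.ofNat 1,.ofNat 0,.ofNat 0,.ofNat 0,.ofNat 0,.ofNat 0,.ofNat 0,.ofNat 0,.ofNat 0,.ofNat 1]),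
  (7,8,[.negSucc 0,.ofNat 0,.ofNat 0,.ofNat 0,.ofNat 0,.ofNat 0,.ofNat 0,.ofNat 0,.ofNat 0,.ofNat 0,.ofNat 0,.negSucc 0,.ofNat 0,.ofNat 0,.ofNat 0,.ofNat 0,.ofNat 0,.ofNat 0,.ofNat 0,.ofNat 0,.ofNat 2,.negSucc 5,.ofNat 0,.negSucc 0,.ofNat 0,.ofNat 0,.ofNat 1,.ofNat 0,.ofNat 0,.ofNat 0,.ofNat 0,.ofNat 0,.ofNat 2]),
  (7,35,[.ofNat 0,.ofNat 0,.ofNat 0,.ofNat 0,.ofNat 0,.ofNat 0,.ofNat 0,.ofNat 0,.ofNat 0,.ofNat 0,.ofNat 0,.ofNat 0,.ofNat 0,.ofNat 0,.ofNat 0,.ofNat 0,.ofNat 0,.ofNat 0,.ofNat 0,.ofNat 0,.ofNat 3,.ofNat 1,.ofNat 2,.ofNat 2,.ofNat 2,.ofNat 0,.ofNat 0,.ofNat 0,.ofNat 0,.ofNat 0,.ofNat 0,.ofNat 0,.ofNat 0,.ofNat 0,.ofNat 0,.ofNat 0,.ofNat 0,.ofNat 0,.ofNat 0,.ofNat 0,.ofNat 0,.ofNat 0,.ofNat 0,.ofNat 0,.ofNat 0,.negSucc 1]),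
  (9,19,[.ofNat 0,.ofNat 0,.ofNat 0,.ofNat 0,.ofNat 0,.ofNat 0,.ofNat 0,.negSucc 0,.ofNat 0,.ofNat 0,.ofNat 0,.ofNat 0,.ofNat 0,.ofNat 0,.ofNat 0,.ofNat 0,.ofNat 0,.ofNat 0,.ofNat 1,.ofNat 0,.ofNat 0,.negSucc 1,.ofNat 0,.ofNat 3,.ofNat 0,.ofNat 1,.ofNat 0,.ofNat 0,.ofNat 0,.ofNat 0,.ofNat 0,.ofNat 0,.ofNat 0,.ofNat 0,.ofNat 1]),
  (22,23,[.ofNat 0,.ofNat 0,.ofNat 1,.ofNat 0,.ofNat 0,.ofNat 0,.ofNat 0,.ofNat 0,.ofNat 1,.ofNat 0,.ofNat 0,.ofNat 0,.ofNat 0,.ofNat 0,.ofNat 0,.ofNat 0,.ofNat 0,.ofNat 0,.ofNat 0,.ofNat 0,.ofNat 1,.ofNat 0,.ofNat 0,.ofNat 0,.ofNat 0,.ofNat 0,.ofNat 0,.ofNat 0,.ofNat 0,.ofNat 0,.ofNat 0,.ofNat 0,.ofNat 1]),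
  (38,24,[.ofNat 2,.ofNat 0,.negSucc 0,.ofNat 0,.ofNat 0,.ofNat 0,.ofNat 0,.ofNat 0,.ofNat 0,.ofNat 0,.ofNat 0,.ofNat 1,.ofNat 0,.ofNat 0,.ofNat 0,.ofNat 0,.ofNat 0,.ofNat 0,.ofNat 0,.ofNat 0,.ofNat 1,.negSucc 2,.ofNat 2,.negSucc 2,.ofNat 0,.ofNat 0,.ofNat 0,.ofNat 0,.negSucc 0,.ofNat 0,.ofNat 0,.ofNat 0,.ofNat 2,.ofNat 0,.ofNat 0,.ofNat 0,.ofNat 0,.ofNat 0,.ofNat 0,.ofNat 0,.ofNat 0,.ofNat 0,.ofNat 0,.ofNat 2,.negSucc 0]),
  (40,29,[.ofNat 0,.ofNat 0,.ofNat 1,.ofNat 0,.ofNat 0,.ofNat 0,.ofNat 0,.ofNat 0,.ofNat 0,.ofNat 0,.ofNat 0,.ofNat 0,.negSucc 0,.ofNat 1,.ofNat 0,.ofNat 0,.ofNat 0,.ofNat 0,.ofNat 0,.ofNat 0,.ofNat 1,.negSucc 6,.ofNat 2,.negSucc 0,.ofNat 2,.ofNat 0,.ofNat 2,.negSucc 0,.ofNat 0,.negSucc 0,.ofNat 0,.ofNat 0,.ofNat 1,.ofNat 0,.ofNat 0,.negSucc 0,.ofNat 0,.ofNat 0,.ofNat 0,.ofNat 0,.ofNat 0,.ofNat 0,.ofNat 0,.negSucc 0,.ofNat 1,.ofNat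 0,.ofNat 0,.ofNat 0,.ofNat 0,.ofNat 1]),
  (48,27,[.ofNat 0,.ofNat 0,.ofNat 0,.ofNat 0,.ofNat 0,.ofNat 0,.ofNat 0,.ofNat 0,.ofNat 0,.ofNat 0,.ofNat 0,.ofNat 0,.ofNat 0,.ofNat 0,.ofNat 0,.ofNat 0,.ofNat 0,.ofNat 0,.ofNat 0,.ofNat 0,.ofNat 0,.ofNat 2,.ofNat 0,.ofNat 0,.ofNat 0,.ofNat 2,.ofNat 0,.ofNat 0,.ofNat 0,.ofNat 0,.ofNat 0,.ofNat 0,.ofNat 0,.ofNat 0,.negSucc 0,.ofNat 0,.ofNat 0,.ofNat 0,.ofNat 0,.ofNat 0,.ofNat 0,.ofNat 0,.ofNat 0,.ofNat 0,.ofNat 0,.ofNat 0,.ofNat 0,.ofNat 1]),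
  (59,34,[.negSucc 0,.ofNat 0,.ofNat 1,.ofNat 0,.ofNat 0,.ofNat 0,.ofNat 0,.ofNat 0,.ofNat 0,.ofNat 0,.ofNat 0,.ofNat 0,.ofNat 0,.ofNat 0,.ofNat 0,.ofNat 0,.ofNat 0,.ofNat 0,.ofNat 0,.ofNat 0,.ofNat 1,.ofNat 5,.ofNat 2,.ofNat 5,.ofNat 0,.ofNat 0,.ofNat 0,.negSucc 0,.ofNat 1,.ofNat 0,.ofNat 0,.ofNat 0,.negSucc 1,.ofNat 0,.ofNat 0,.negSucc 0,.ofNat 0,.ofNat 0,.ofNat 0,.ofNat 0,.ofNat 0,.ofNat 0,.ofNat 0,.negSucc 1,.ofNat 1]),
  (60,33,[.negSucc 0,.ofNat 0,.ofNat 5,.ofNat 0,.negSucc 0,.ofNat 0,.ofNat 0,.ofNat 2,.negSucc 3,.ofNat 0,.ofNat 0,.ofNat 2,.ofNat 3,.negSucc 3,.ofNat 0,.ofNat 0,.ofNat 0,.ofNat 0,.ofNat 0,.ofNat 0,.ofNat 10,.ofNat 55,.ofNat 7,.ofNat 41,.negSucc 3,.ofNat 2,.ofNat 0,.ofNat 4,.negSucc 0,.ofNat 1,.ofNat 2,.negSucc 5,.negSucc 6,.ofNat 0,.ofNat 0,.ofNat 0,.ofNat 0,.ofNat 0,.ofNat 0,.ofNat 0,.ofNat 0,.ofNat 0,.ofNat 0,.negSucc 4,.negSucc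 8,.ofNat 0,.ofNat 0,.negSucc 4,.ofNat 1,.ofNat 1,.ofNat 1]),
  (63,29,[.ofNat 0,.ofNat 0,.negSucc 0,.ofNat 0,.ofNat 0,.ofNat 0,.ofNat 0,.ofNat 0,.ofNat 0,.ofNat 0,.ofNat 0,.ofNat 1,.ofNat 0,.ofNat 0,.ofNat 0,.ofNat 0,.ofNat 0,.ofNat 0,.ofNat 0,.ofNat 0,.negSucc 1,.negSucc 3,.negSucc 0,.negSucc 4,.ofNat 2,.ofNat 0,.ofNat 0,.ofNat 0,.ofNat 0,.ofNat 0,.ofNat 0,.ofNat 0,.ofNat 0,.ofNat 0,.ofNat 0,.ofNat 0,.ofNat 0,.ofNat 0,.ofNat 0,.ofNat 0,.ofNat 0,.ofNat 0,.ofNat 0,.ofNat 2,.ofNat 2,.ofNat 0,.ofNat 0,.ofNat 0,.ofNat 0,.negSucc 0]),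
  (74,13,[.ofNat 0,.ofNat 0,.ofNat 0,.ofNat 0,.ofNat 0,.ofNat 0,.ofNat 0,.ofNat 0,.ofNat 0,.ofNat 0,.ofNat 0,.ofNat 0,.ofNat 0,.ofNat 0,.ofNat 0,.ofNat 0,.ofNat 0,.ofNat 0,.ofNat 0,.ofNat 0,.ofNat 0,.ofNat 3,.ofNat 1,.negSucc 3,.negSucc 1,.ofNat 0,.ofNat 0,.ofNat 0,.ofNat 0,.ofNat 0,.ofNat 0,.ofNat 0,.ofNat 0,.ofNat 0,.ofNat 0,.negSucc 0,.ofNat 0,.ofNat 0,.ofNat 2]),
  (80,27,[.ofNat 0,.ofNat 0,.ofNat 0,.ofNat 0,.ofNat 0,.ofNat 0,.ofNat 0,.ofNat 0,.ofNat 0,.ofNat 0,.ofNat 0,.ofNat 0,.ofNat 0,.ofNat 0,.ofNat 0,.ofNat 0,.ofNat 0,.ofNat 0,.ofNat 0,.ofNat 0,.ofNat 2,.negSucc 1,.ofNat 0,.ofNat 0,.ofNat 0,.ofNat 4,.ofNat 1,.ofNat 0,.ofNat 0,.ofNat 0,.negSucc 1,.ofNat 0,.ofNat 0,.ofNat 0,.ofNat 0,.ofNat 0,.ofNat 0,.ofNat 0,.ofNat 0,.ofNat 0,.ofNat 0,.ofNat 0,.ofNat 0,.ofNat 0,.ofNat 0,.ofNat 0,.ofNat 0,.ofNat 1]),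
  (86,32,[.negSucc 1,.ofNat 0,.ofNat 1,.ofNat 0,.ofNat 0,.negSucc 0,.ofNat 0,.ofNat 0,.ofNat 0,.ofNat 0,.ofNat 0,.ofNat 2,.ofNat 2,.negSucc 1,.ofNat 0,.ofNat 0,.ofNat 0,.ofNat 0,.ofNat 0,.ofNat 0,.ofNat 2,.ofNat 16,.ofNat 0,.ofNat 19,.ofNat 0,.ofNat 0,.ofNat 0,.ofNat 0,.ofNat 1,.ofNat 0,.ofNat 0,.ofNat 0,.negSucc 2,.ofNat 0,.ofNat 0,.ofNat 1,.ofNat 0,.ofNat 0,.ofNat 0,.ofNat 0,.ofNat 0,.ofNat 0,.ofNat 0,.negSucc 4,.negSucc 0]),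
  (92,16,[.ofNat 0,.ofNat 0,.ofNat 0,.ofNat 0,.ofNat 0,.negSucc 1,.ofNat 0,.ofNat 0,.ofNat 0,.ofNat 0,.ofNat 0,.ofNat 0,.ofNat 0,.ofNat 0,.ofNat 0,.ofNat 0,.ofNat 0,.ofNat 0,.ofNat 0,.ofNat 0,.negSucc 1,.ofNat 0,.ofNat 1,.negSucc 5,.negSucc 1,.ofNat 5,.ofNat 0,.ofNat 0,.ofNat 0,.ofNat 0,.ofNat 0,.ofNat 0,.ofNat 0,.ofNat 0,.ofNat 0,.ofNat 1,.ofNat 0,.ofNat 0,.ofNat 2,.ofNat 0,.negSucc 0,.ofNat 0,.ofNat 0,.ofNat 0,.ofNat 0,.ofNat 2,.ofNat 0,.ofNat 0,.ofNat 0,.ofNat 0,.negSucc 0]),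
  (100,31,[.ofNat 0,.ofNat 0,.ofNat 0,.ofNat 0,.ofNat 0,.ofNat 0,.ofNat 0,.ofNat 0,.ofNat 0,.ofNat 0,.ofNat 0,.ofNat 0,.ofNat 0,.ofNat 0,.ofNat 0,.ofNat 0,.ofNat 0,.ofNat 0,.ofNat 0,.ofNat 0,.ofNat 0,.ofNat 0,.ofNat 2,.ofNat 0,.ofNat 0,.negSucc 1,.ofNat 0,.negSucc 0,.ofNat 0,.ofNat 0,.ofNat 1]),
  (141,28,[.ofNat 0,.ofNat 0,.ofNat 0,.ofNat 0,.ofNat 0,.negSucc 1,.ofNat 0,.ofNat 0,.ofNat 0,.ofNat 0,.ofNat 0,.ofNat 0,.ofNat 0,.ofNat 0,.ofNat 0,.ofNat 0,.ofNat 0,.ofNat 0,.ofNat 0,.ofNat 0,.ofNat 2,.ofNat 1,.ofNat 2,.negSucc 2,.negSucc 0,.ofNat 2,.ofNat 0,.ofNat 0,.ofNat 0,.ofNat 0,.ofNat 0,.ofNat 0,.ofNat 0,.ofNat 0,.ofNat 0,.ofNat 0,.ofNat 0,.ofNat 0,.ofNat 2,.ofNat 0,.ofNat 0,.ofNat 0,.ofNat 0,.ofNat 0,.ofNat 0,.ofNat 0,.ofNat 0,.ofNat 0,.negSucc 0]),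
  (164,25,[.ofNat 0,.ofNat 0,.ofNat 0,.negSucc 0,.ofNat 0,.ofNat 0,.ofNat 0,.ofNat 0,.ofNat 0,.ofNat 0,.ofNat 0,.negSucc 0,.ofNat 0,.ofNat 1,.ofNat 0,.ofNat 0,.ofNat 0,.ofNat 0,.ofNat 0,.ofNat 0,.ofNat 0,.ofNat 0,.ofNat 4,.negSucc 4,.ofNat 2,.ofNat 0,.ofNat 0,.ofNat 1,.ofNat 0,.ofNat 0,.ofNat 0,.negSucc 2,.ofNat 1,.ofNat 0,.ofNat 0,.ofNat 0,.ofNat 0,.ofNat 0,.ofNat 0,.ofNat 0,.ofNat 0,.ofNat 0,.ofNat 0,.ofNat 1,.ofNat 1,.negSucc 0]),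
  (171,36,[.ofNat 2,.ofNat 0,.negSucc 0,.ofNat 0,.ofNat 0,.ofNat 0,.ofNat 0,.ofNat 0,.ofNat 0,.ofNat 0,.ofNat 0,.negSucc 1,.negSucc 1,.ofNat 2,.ofNat 0,.ofNat 0,.ofNat 1,.ofNat 0,.ofNat 0,.ofNat 0,.ofNat 4,.negSucc 16,.ofNat 1,.negSucc 16,.ofNat 0,.negSucc 0,.ofNat 0,.negSucc 0,.negSucc 0,.ofNat 0,.negSucc 0,.ofNat 0,.ofNat 3,.ofNat 0,.ofNat 1,.ofNat 0,.ofNat 0,.ofNat 0,.ofNat 0,.ofNat 0,.ofNat 0,.ofNat 0,.ofNat 0,.ofNat 4,.ofNat 1]),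
  (173,18,[.ofNat 1,.ofNat 0,.ofNat 0,.ofNat 0,.ofNat 0,.negSucc 0,.ofNat 0,.ofNat 0,.ofNat 0,.ofNat 0,.ofNat 0,.ofNat 0,.ofNat 0,.ofNat 0,.ofNat 0,.ofNat 0,.ofNat 0,.ofNat 0,.ofNat 0,.ofNat 0,.negSucc 1,.ofNat 2,.negSucc 1,.ofNat 5,.ofNat 3,.ofNat 0,.ofNat 0,.ofNat 0,.ofNat 0,.ofNat 1,.ofNat 0,.ofNat 0,.negSucc 0,.ofNat 0,.ofNat 0,.ofNat 2,.ofNat 0,.ofNat 0,.negSucc 0]),
  (184,18,[.ofNat 0,.ofNat 0,.ofNat 0,.ofNat 0,.ofNat 0,.ofNat 0,.ofNat 0,.ofNat 0,.ofNat 0,.ofNat 0,.ofNat 0,.ofNat 0,.ofNat 0,.ofNat 0,.ofNat 0,.ofNat 0,.ofNat 0,.ofNat 0,.ofNat 0,.ofNat 0,.ofNat 0,.ofNat 0,.ofNat 0,.ofNat 2,.ofNat 2,.negSucc 5,.ofNat 0,.ofNat 0,.ofNat 0,.ofNat 0,.ofNat 0,.ofNat 0,.ofNat 0,.ofNat 0,.ofNat 0,.ofNat 0,.ofNat 0,.ofNat 0,.negSucc 0,.ofNat 1,.ofNat 1]),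
  (226,24,[.negSucc 0,.ofNat 0,.negSucc 0,.ofNat 0,.ofNat 0,.ofNat 0,.ofNat 0,.ofNat 0,.ofNat 0,.ofNat 0,.ofNat 0,.ofNat 0,.ofNat 0,.ofNat 0,.ofNat 0,.ofNat 0,.ofNat 0,.ofNat 0,.ofNat 0,.ofNat 0,.ofNat 2,.ofNat 3,.ofNat 5,.ofNat 1,.ofNat 0,.ofNat 0,.negSucc 0,.ofNat 0,.ofNat 0,.ofNat 0,.ofNat 0,.negSucc 1,.ofNat 1,.ofNat 0,.ofNat 0,.negSucc 1,.ofNat 0,.ofNat 0,.ofNat 0,.ofNat 0,.ofNat 0,.ofNat 0,.ofNat 0,.ofNat 0,.ofNat 1]),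
  (236,35,[.ofNat 1,.ofNat 0,.ofNat 0,.negSucc 0,.ofNat 0,.ofNat 0,.ofNat 0,.ofNat 0,.negSucc 1,.negSucc 0,.ofNat 0,.ofNat 0,.negSucc 0,.ofNat 2,.ofNat 0,.ofNat 0,.ofNat 0,.ofNat 0,.ofNat 0,.ofNat 0,.ofNat 1,.ofNat 0,.negSucc 0,.ofNat 1,.negSucc 2,.ofNat 0,.ofNat 0,.negSucc 0,.ofNat 0,.negSucc 0,.ofNat 0,.ofNat 0,.negSucc 2,.ofNat 0,.ofNat 0,.negSucc 0,.ofNat 0,.ofNat 0,.ofNat 0,.ofNat 0,.ofNat 0,.ofNat 0,.ofNat 0,.ofNat 0,.ofNat 1,.ofNat 3]),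
  (267,26,[.negSucc 0,.ofNat 0,.ofNat 0,.ofNat 0,.ofNat 1,.ofNat 0,.ofNat 0,.ofNat 0,.ofNat 0,.ofNat 0,.ofNat 0,.ofNat 0,.ofNat 1,.ofNat 0,.ofNat 0,.ofNat 0,.ofNat 0,.ofNat 0,.ofNat 0,.ofNat 0,.negSucc 1,.ofNat 1,.ofNat 1,.negSucc 3,.ofNat 2,.ofNat 0,.ofNat 0,.ofNat 1,.ofNat 1,.ofNat 0,.ofNat 0,.negSucc 0,.ofNat 2,.ofNat 0,.ofNat 0,.ofNat 0,.ofNat 0,.ofNat 0,.ofNat 0,.ofNat 0,.ofNat 0,.ofNat 0,.ofNat 0,.ofNat 0,.ofNat 0,.ofNat 0,.ofNat 0,.ofNat 0,.ofNat 0,.negSucc 0]),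
  (270,22,[.ofNat 1,.ofNat 0,.ofNat 0,.ofNat 0,.negSucc 0,.ofNat 0,.ofNat 0,.ofNat 0,.ofNat 0,.ofNat 0,.ofNat 0,.ofNat 0,.ofNat 0,.ofNat 0,.ofNat 0,.ofNat 0,.ofNat 0,.ofNat 0,.ofNat 0,.ofNat 0,.negSucc 2,.ofNat 0,.negSucc 4,.negSucc 2,.negSucc 0,.ofNat 0,.ofNat 0,.ofNat 1,.ofNat 0,.ofNat 0,.ofNat 0,.ofNat 1,.negSucc 0,.ofNat 0,.ofNat 0,.ofNat 2,.ofNat 0,.ofNat 0,.ofNat 0,.ofNat 0,.ofNat 0,.ofNat 0,.ofNat 0,.ofNat 0,.ofNat 1,.ofNat 0,.ofNat 0,.ofNat 0,.ofNat 0,.ofNat 1]),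
  (270,32,[.negSucc 0,.ofNat 0,.ofNat 0,.ofNat 0,.ofNat 0,.ofNat 0,.ofNat 0,.ofNat 0,.ofNat 0,.ofNat 0,.ofNat 0,.negSucc 0,.ofNat 0,.ofNat 0,.ofNat 0,.ofNat 0,.ofNat 0,.ofNat 0,.ofNat 0,.ofNat 0,.ofNat 1,.negSucc 2,.ofNat 1,.negSucc 0,.ofNat 0,.ofNat 0,.ofNat 0,.ofNat 0,.ofNat 0,.ofNat 0,.ofNat 0,.ofNat 0,.ofNat 1,.ofNat 0,.ofNat 0,.negSucc 0]),
  (285,23,[.ofNat 2,.ofNat 2,.ofNat 0,.negSucc 0,.negSucc 0,.ofNat 0,.ofNat 0,.ofNat 0,.negSucc 0,.ofNat 0,.ofNat 0,.ofNat 1,.ofNat 1,.negSucc 0,.ofNat 0,.ofNat 0,.ofNat 0,.ofNat 0,.ofNat 0,.ofNat 0,.ofNat 3,.ofNat 14,.negSucc 2,.ofNat 16,.negSucc 1,.ofNat 1,.negSucc 0,.ofNat 2,.negSucc 0,.ofNat 0,.ofNat 0,.negSucc 2,.negSucc 2,.ofNat 0,.ofNat 0,.ofNat 1,.ofNat 0,.ofNat 0,.ofNat 0,.ofNat 0,.ofNat 0,.ofNat 1,.ofNat 0,.negSucc 2,.ofNat 1,.ofNat 0,.ofNat 1,.ofNat 0,.ofNat 0,.ofNat 0,.negSucc 0]),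
  (316,35,[.ofNat 2,.ofNat 0,.negSucc 0,.ofNat 0,.ofNat 0,.ofNat 0,.ofNat 0,.negSucc 0,.ofNat 0,.ofNat 0,.ofNat 0,.negSucc 1,.negSucc 1,.ofNat 2,.ofNat 0,.ofNat 0,.ofNat 0,.ofNat 0,.ofNat 0,.ofNat 0,.ofNat 1,.negSucc 20,.ofNat 3,.negSucc 17,.negSucc 1,.ofNat 1,.ofNat 0,.negSucc 1,.negSucc 0,.ofNat 0,.negSucc 0,.ofNat 1,.ofNat 3,.ofNat 0,.ofNat 0,.ofNat 0,.ofNat 0,.negSucc 0,.ofNat 0,.ofNat 0,.ofNat 0,.ofNat 0,.ofNat 0,.ofNat 4,.ofNat 1,.ofNat 1,.ofNat 0,.ofNat 2]),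
  (322,23,[.ofNat 0,.ofNat 0,.ofNat 0,.ofNat 0,.ofNat 0,.ofNat 0,.ofNat 0,.ofNat 0,.ofNat 0,.ofNat 0,.ofNat 0,.ofNat 0,.ofNat 0,.ofNat 0,.ofNat 0,.ofNat 0,.ofNat 0,.ofNat 0,.ofNat 0,.ofNat 0,.ofNat 0,.negSucc 2,.ofNat 0,.negSucc 3,.ofNat 0,.ofNat 0,.ofNat 0,.ofNat 0,.ofNat 1,.ofNat 0,.ofNat 0,.ofNat 0,.ofNat 3,.ofNat 0,.ofNat 0,.ofNat 0,.ofNat 0,.ofNat 0,.ofNat 0,.ofNat 0,.ofNat 0,.ofNat 0,.ofNat 0,.negSucc 0]),
  (354,34,[.ofNat 0,.ofNat 0,.ofNat 0,.ofNat 0,.ofNat 0,.ofNat 0,.ofNat 0,.ofNat 0,.ofNat 0,.ofNat 0,.ofNat 0,.ofNat 0,.ofNat 0,.ofNat 0,.ofNat 0,.ofNat 0,.ofNat 0,.ofNat 0,.ofNat 0,.ofNat 0,.ofNat 0,.ofNat 0,.ofNat 1,.ofNat 0,.ofNat 0,.ofNat 0,.ofNat 0,.ofNat 0,.ofNat 0,.ofNat 0,.ofNat 0,.ofNat 0,.ofNat 0,.ofNat 0,.ofNat 0,.negSucc 0]),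
  (386,21,[.ofNat 0,.ofNat 0,.ofNat 0,.ofNat 0,.ofNat 0,.ofNat 0,.ofNat 0,.ofNat 0,.ofNat 0,.ofNat 0,.ofNat 0,.ofNat 0,.ofNat 0,.ofNat 0,.ofNat 0,.ofNat 0,.ofNat 0,.ofNat 0,.ofNat 0,.ofNat 0,.ofNat 0,.ofNat 2,.ofNat 0,.ofNat 0,.ofNat 0,.ofNat 0,.ofNat 0,.ofNat 1]),
  (390,17,[.ofNat 0,.ofNat 1,.ofNat 0,.ofNat 0,.ofNat 0,.ofNat 1,.ofNat 0,.ofNat 0,.ofNat 0,.ofNat 0,.ofNat 0,.ofNat 0,.ofNat 0,.ofNat 0,.ofNat 0,.ofNat 0,.ofNat 0,.ofNat 0,.ofNat 0,.ofNat 0,.ofNat 3,.negSucc 2,.ofNat 2,.ofNat 0,.ofNat 2,.ofNat 3,.ofNat 0,.ofNat 0,.ofNat 0,.ofNat 0,.negSucc 0,.ofNat 1,.ofNat 0,.ofNat 0,.ofNat 1,.ofNat 0,.ofNat 0,.ofNat 0,.ofNat 0,.ofNat 0,.ofNat 0,.ofNat 0,.ofNat 0,.ofNat 0,.ofNat 0,.ofNat 0,.ofNat 0,.ofNat 0,.negSucc 0]),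
  (477,8,[.ofNat 0,.ofNat 0,.ofNat 0,.ofNat 0,.ofNat 0,.ofNat 0,.ofNat 0,.ofNat 0,.ofNat 0,.ofNat 0,.ofNat 0,.ofNat 0,.ofNat 0,.ofNat 0,.ofNat 0,.ofNat 0,.ofNat 0,.ofNat 0,.ofNat 0,.ofNat 0,.ofNat 1,.negSucc 1,.ofNat 0,.ofNat 3,.ofNat 0,.ofNat 0,.ofNat 1]),
  (487,12,[.ofNat 0,.ofNat 0,.ofNat 0,.ofNat 0,.ofNat 0,.ofNat 0,.ofNat 0,.ofNat 0,.ofNat 0,.ofNat 0,.ofNat 0,.ofNat 0,.ofNat 0,.ofNat 0,.ofNat 0,.ofNat 0,.ofNat 0,.ofNat 0,.ofNat 0,.ofNat 0,.negSucc 0,.ofNat 1,.ofNat 0,.negSucc 0,.ofNat 0,.negSucc 4,.ofNat 0,.ofNat 0,.ofNat 0,.ofNat 0,.ofNat 0,.ofNat 0,.ofNat 0,.ofNat 0,.ofNat 0,.negSucc 0,.ofNat 0,.ofNat 0,.ofNat 0,.ofNat 1,.ofNat 0,.ofNat 0,.ofNat 0,.ofNat 0,.ofNat 0,.ofNat 0,.ofNat 0,.ofNat 0,.ofNat 0,.ofNat 0,.ofNat 1]),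
  (521,16,[.ofNat 0,.ofNat 0,.ofNat 0,.ofNat 0,.ofNat 0,.ofNat 0,.ofNat 0,.ofNat 0,.ofNat 0,.ofNat 0,.ofNat 0,.ofNat 0,.ofNat 0,.ofNat 0,.ofNat 0,.ofNat 0,.negSucc 0,.ofNat 0,.negSucc 0,.ofNat 0,.negSucc 1,.ofNat 0,.ofNat 2,.negSucc 0,.ofNat 3,.negSucc 0,.ofNat 0,.ofNat 0,.ofNat 0,.ofNat 0,.ofNat 1,.ofNat 0,.ofNat 0,.ofNat 0,.ofNat 0,.ofNat 1]),
  (556,26,[.ofNat 1,.ofNat 0,.ofNat 0,.negSucc 0,.negSucc 0,.ofNat 0,.ofNat 0,.ofNat 0,.negSucc 0,.ofNat 0,.ofNat 0,.negSucc 1,.negSucc 1,.ofNat 1,.ofNat 0,.ofNat 0,.ofNat 0,.ofNat 0,.ofNat 0,.ofNat 0,.ofNat 8,.ofNat 5,.negSucc 1,.negSucc 6,.negSucc 3,.ofNat 0,.ofNat 0,.negSucc 2,.ofNat 0,.ofNat 3,.ofNat 0,.ofNat 5,.negSucc 1,.ofNat 0,.ofNat 0,.ofNat 9,.ofNat 0,.ofNat 0,.ofNat 0,.ofNat 0,.ofNat 0,.negSucc 0,.ofNat 0,.ofNat 3,.negSucc 4,.ofNat 1,.negSucc 0]),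
  (586,22,[.ofNat 0,.ofNat 1,.ofNat 0,.ofNat 0,.ofNat 0,.ofNat 0,.ofNat 0,.ofNat 0,.ofNat 0,.ofNat 0,.ofNat 0,.ofNat 0,.ofNat 0,.ofNat 0,.ofNat 0,.ofNat 0,.ofNat 0,.ofNat 0,.ofNat 1,.ofNat 0,.ofNat 4,.ofNat 5,.negSucc 2,.ofNat 0,.ofNat 0,.negSucc 1,.ofNat 0,.ofNat 0,.ofNat 0,.ofNat 0,.negSucc 0,.ofNat 0,.ofNat 0,.ofNat 0,.negSucc 0,.ofNat 0,.ofNat 0,.ofNat 2]),
  (595,28,[.ofNat 0,.ofNat 0,.ofNat 0,.ofNat 0,.ofNat 0,.ofNat 0,.ofNat 0,.ofNat 0,.ofNat 0,.ofNat 0,.ofNat 0,.ofNat 0,.ofNat 0,.ofNat 0,.ofNat 0,.ofNat 0,.ofNat 0,.ofNat 0,.ofNat 2,.ofNat 0,.ofNat 2,.ofNat 1,.ofNat 2,.ofNat 1,.ofNat 4,.ofNat 1,.ofNat 0,.ofNat 0,.ofNat 0,.ofNat 0,.ofNat 0,.ofNat 0,.ofNat 0,.ofNat 0,.ofNat 0,.ofNat 0,.ofNat 0,.ofNat 0,.ofNat 0,.ofNat 0,.ofNat 0,.ofNat 0,.ofNat 0,.ofNat 0,.ofNat 0,.ofNat 0,.ofNat 0,.ofNat 0,.negSucc 0]),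
  (618,30,[.negSucc 16,.ofNat 9,.negSucc 2,.negSucc 18,.negSucc 4,.ofNat 5,.ofNat 0,.ofNat 0,.ofNat 6,.negSucc 9,.ofNat 0,.ofNat 7,.ofNat 1,.negSucc 0,.ofNat 0,.ofNat 0,.ofNat 1,.ofNat 0,.negSucc 0,.ofNat 1,.ofNat 29,.negSucc 30,.ofNat 30,.ofNat 148,.negSucc 13,.ofNat 24,.ofNat 18,.ofNat 2,.ofNat 11,.ofNat 6,.negSucc 6,.ofNat 17,.ofNat 5,.ofNat 10,.ofNat 1,.negSucc 51,.ofNat 3,.ofNat 0,.negSucc 16,.ofNat 0,.ofNat 0,.negSucc 9,.ofNat 2,.negSucc 37,.ofNat 2,.negSucc 9,.ofNat 14,.negSucc 8,.ofNat 3,.negSucc 6]),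
  (623,18,[.ofNat 0,.ofNat 0,.ofNat 0,.ofNat 0,.ofNat 0,.ofNat 0,.ofNat 0,.ofNat 0,.ofNat 0,.ofNat 0,.ofNat 0,.ofNat 0,.ofNat 0,.ofNat 0,.ofNat 0,.ofNat 0,.ofNat 0,.ofNat 0,.ofNat 0,.ofNat 0,.negSucc 2,.ofNat 1,.negSucc 3,.ofNat 3,.ofNat 2,.ofNat 0,.ofNat 0,.ofNat 0,.ofNat 0,.ofNat 0,.ofNat 0,.ofNat 0,.negSucc 0,.ofNat 0,.ofNat 0,.ofNat 2,.ofNat 0,.ofNat 0,.negSucc 0,.ofNat 0,.ofNat 0,.ofNat 0,.ofNat 0,.ofNat 0,.ofNat 0,.ofNat 2]),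
  (661,21,[.ofNat 0,.ofNat 0,.ofNat 0,.ofNat 0,.ofNat 0,.ofNat 0,.ofNat 0,.ofNat 0,.ofNat 0,.ofNat 0,.ofNat 0,.ofNat 0,.ofNat 0,.ofNat 0,.ofNat 0,.ofNat 0,.ofNat 0,.ofNat 0,.ofNat 0,.ofNat 0,.ofNat 6,.ofNat 4,.ofNat 3,.ofNat 0,.ofNat 0,.ofNat 0,.ofNat 0,.ofNat 0,.ofNat 0,.ofNat 0,.ofNat 0,.ofNat 2,.ofNat 0,.ofNat 0,.ofNat 0,.ofNat 0,.ofNat 0,.ofNat 0,.ofNat 0,.ofNat 0,.ofNat 0,.negSucc 0,.negSucc 0]),
  (703,27,[.ofNat 0,.ofNat 0,.ofNat 0,.ofNat 0,.ofNat 0,.ofNat 0,.ofNat 0,.ofNat 0,.ofNat 0,.ofNat 0,.ofNat 0,.ofNat 0,.ofNat 0,.ofNat 0,.ofNat 0,.ofNat 0,.ofNat 0,.ofNat 0,.ofNat 0,.ofNat 0,.negSucc 1,.ofNat 2,.ofNat 0,.ofNat 0,.ofNat 0,.ofNat 0,.ofNat 0,.ofNat 0,.ofNat 0,.ofNat 0,.ofNat 1,.ofNat 0,.ofNat 0,.ofNat 0,.negSucc 0,.ofNat 0,.ofNat 0,.ofNat 0,.ofNat 0,.ofNat 0,.ofNat 0,.ofNat 0,.ofNat 0,.ofNat 0,.ofNat 0,.ofNat 0,.ofNat 0,.ofNat 1]),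
  (708,24,[.ofNat 1,.ofNat 0,.ofNat 1,.ofNat 0,.ofNat 0,.ofNat 0,.ofNat 0,.ofNat 0,.ofNat 0,.ofNat 0,.ofNat 0,.ofNat 0,.ofNat 0,.ofNat 0,.ofNat 0,.ofNat 0,.ofNat 0,.ofNat 0,.ofNat 0,.ofNat 0,.ofNat 0,.ofNat 1,.negSucc 1,.ofNat 3,.ofNat 0,.ofNat 0,.ofNat 1,.ofNat 0,.ofNat 0,.ofNat 0,.ofNat 0,.ofNat 2,.negSucc 0,.ofNat 0,.ofNat 0,.ofNat 1,.ofNat 0,.ofNat 0,.ofNat 0,.ofNat 0,.ofNat 0,.ofNat 0,.ofNat 0,.ofNat 0,.negSucc 0]),
  (745,29,[.ofNat 2,.ofNat 2,.negSucc 1,.ofNat 1,.negSucc 1,.ofNat 5,.ofNat 0,.ofNat 0,.ofNat 1,.negSucc 4,.ofNat 0,.ofNat 0,.ofNat 2,.negSucc 0,.ofNat 0,.ofNat 0,.ofNat 0,.ofNat 0,.ofNat 0,.ofNat 0,.negSucc 40,.negSucc 5,.ofNat 11,.ofNat 12,.negSucc 26,.ofNat 7,.ofNat 6,.ofNat 11,.negSucc 3,.ofNat 3,.negSucc 1,.negSucc 21,.ofNat 4,.ofNat 3,.ofNat 1,.negSucc 12,.ofNat 1,.ofNat 0,.negSucc 0,.ofNat 0,.ofNat 0,.ofNat 0,.ofNat 3,.ofNat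 2,.negSucc 6,.ofNat 3,.negSucc 1,.negSucc 3,.ofNat 2,.ofNat 11]),
  (794,34,[.ofNat 0,.ofNat 0,.ofNat 0,.ofNat 0,.ofNat 0,.negSucc 0,.ofNat 0,.ofNat 0,.ofNat 0,.ofNat 0,.ofNat 0,.ofNat 0,.ofNat 0,.ofNat 0,.ofNat 0,.ofNat 0,.ofNat 0,.ofNat 0,.ofNat 0,.ofNat 0,.ofNat 0,.ofNat 0,.negSucc 0,.ofNat 2,.ofNat 0,.ofNat 3,.ofNat 0,.ofNat 0,.ofNat 0,.ofNat 0,.ofNat 0,.ofNat 0,.ofNat 0,.ofNat 0,.ofNat 0,.ofNat 1,.ofNat 0,.ofNat 0,.ofNat 0,.negSucc 0]),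
  (798,28,[.ofNat 0,.negSucc 0,.negSucc 0,.ofNat 0,.ofNat 0,.ofNat 0,.ofNat 0,.ofNat 0,.ofNat 0,.ofNat 0,.ofNat 0,.ofNat 0,.ofNat 0,.ofNat 0,.ofNat 0,.ofNat 0,.ofNat 0,.ofNat 0,.ofNat 0,.ofNat 0,.ofNat 1,.negSucc 2,.ofNat 1,.ofNat 0,.ofNat 2,.ofNat 2,.ofNat 0,.ofNat 0,.ofNat 0,.ofNat 0,.ofNat 0,.ofNat 1,.ofNat 0,.ofNat 0,.ofNat 1,.ofNat 1,.ofNat 0,.negSucc 0]),
  (841,4,[.ofNat 0,.ofNat 0,.ofNat 0,.ofNat 0,.ofNat 0,.ofNat 2,.ofNat 0,.ofNat 0,.ofNat 0,.ofNat 0,.ofNat 0,.ofNat 0,.ofNat 0,.ofNat 0,.ofNat 0,.ofNat 0,.ofNat 0,.ofNat 0,.ofNat 0,.ofNat 0,.negSucc 3,.ofNat 0,.ofNat 0,.ofNat 4,.ofNat 2,.ofNat 0,.ofNat 0,.ofNat 0,.ofNat 0,.ofNat 2,.ofNat 0,.ofNat 0,.ofNat 0,.ofNat 0,.ofNat 0,.ofNat 0,.ofNat 0,.ofNat 0,.negSucc 1]),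
  (883,29,[.ofNat 11,.ofNat 0,.ofNat 0,.negSucc 2,.ofNat 0,.negSucc 0,.ofNat 0,.ofNat 0,.negSucc 3,.ofNat 1,.ofNat 0,.ofNat 6,.ofNat 3,.negSucc 1,.ofNat 0,.ofNat 0,.ofNat 0,.ofNat 0,.ofNat 0,.ofNat 0,.ofNat 1,.ofNat 15,.ofNat 3,.ofNat 18,.ofNat 11,.ofNat 0,.ofNat 0,.ofNat 6,.negSucc 5,.negSucc 3,.ofNat 0,.negSucc 9,.negSucc 3,.negSucc 0,.ofNat 0,.negSucc 4,.ofNat 0,.ofNat 0,.negSucc 0,.ofNat 0,.ofNat 0,.ofNat 2,.ofNat 1,.ofNat 6,.ofNat 1,.ofNat 2,.ofNat 1,.ofNat 0,.ofNat 0,.negSucc 4]),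
  (949,10,[.ofNat 0,.ofNat 0,.ofNat 0,.ofNat 0,.ofNat 0,.ofNat 0,.ofNat 0,.ofNat 0,.ofNat 0,.ofNat 0,.ofNat 0,.ofNat 0,.ofNat 0,.ofNat 0,.ofNat 0,.ofNat 0,.ofNat 0,.ofNat 0,.ofNat 0,.ofNat 0,.ofNat 1,.ofNat 0,.ofNat 0,.ofNat 0,.ofNat 0,.ofNat 2]),
  (1047,14,[.ofNat 0,.ofNat 0,.ofNat 0,.ofNat 0,.ofNat 0,.ofNat 0,.ofNat 0,.negSucc 0,.ofNat 0,.ofNat 0,.ofNat 0,.ofNat 0,.ofNat 0,.ofNat 0,.ofNat 0,.ofNat 0,.ofNat 0,.ofNat 0,.ofNat 1,.ofNat 0,.negSucc 1,.negSucc 4,.ofNat 2,.ofNat 0,.ofNat 0,.ofNat 5,.ofNat 0,.ofNat 0,.ofNat 0,.ofNat 0,.negSucc 0,.ofNat 2,.ofNat 0,.ofNat 0,.ofNat 0,.ofNat 0,.ofNat 0,.negSucc 1,.ofNat 0,.ofNat 0,.ofNat 0,.ofNat 0,.ofNat 0,.ofNat 0,.ofNat 0,.ofNat 0,.ofNat 0,.ofNat 2]),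
  (1057,3,[.ofNat 0,.ofNat 0,.ofNat 0,.ofNat 0,.ofNat 0,.negSucc 1,.ofNat 0,.ofNat 0,.ofNat 0,.ofNat 0,.ofNat 0,.ofNat 0,.ofNat 0,.ofNat 0,.ofNat 0,.ofNat 0,.ofNat 0,.ofNat 0,.ofNat 0,.ofNat 0,.negSucc 1,.negSucc 1,.negSucc 1,.ofNat 0,.ofNat 0,.negSucc 3,.ofNat 0,.ofNat 0,.ofNat 0,.ofNat 0,.ofNat 0,.ofNat 0,.ofNat 0,.ofNat 0,.ofNat 0,.ofNat 0,.ofNat 0,.ofNat 0,.ofNat 0,.ofNat 0,.ofNat 0,.ofNat 0,.ofNat 0,.ofNat 0,.ofNat 0,.ofNat 0,.ofNat 0,.ofNat 0,.ofNat 0,.ofNat 0,.ofNat 2]),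
  (1057,34,[.ofNat 0,.ofNat 0,.ofNat 0,.ofNat 0,.ofNat 0,.ofNat 1,.ofNat 0,.ofNat 0,.ofNat 0,.ofNat 0,.ofNat 0,.ofNat 0,.ofNat 0,.ofNat 0,.ofNat 0,.ofNat 0,.ofNat 0,.ofNat 0,.ofNat 0,.ofNat 0,.ofNat 1,.ofNat 1,.ofNat 1,.ofNat 0,.ofNat 0,.ofNat 2,.ofNat 0,.ofNat 0,.ofNat 0,.ofNat 0,.ofNat 0,.ofNat 0,.ofNat 0,.ofNat 0,.ofNat 0,.ofNat 0,.ofNat 0,.ofNat 0,.ofNat 0,.ofNat 0,.ofNat 0,.ofNat 0,.ofNat 0,.ofNat 0,.ofNat 0,.ofNat 0,.ofNat 0,.ofNat 0,.ofNat 0,.ofNat 0,.negSucc 0]),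
  (1130,15,[.ofNat 0,.ofNat 2,.ofNat 0,.ofNat 0,.ofNat 0,.ofNat 0,.ofNat 0,.ofNat 0,.ofNat 0,.ofNat 0,.ofNat 0,.ofNat 0,.ofNat 0,.ofNat 0,.ofNat 0,.ofNat 0,.ofNat 0,.ofNat 0,.ofNat 0,.ofNat 0,.ofNat 2,.ofNat 2,.negSucc 3,.ofNat 1,.ofNat 0,.negSucc 1,.ofNat 0,.ofNat 0,.ofNat 0,.ofNat 0,.negSucc 0,.ofNat 0,.ofNat 0,.ofNat 0,.negSucc 0,.ofNat 0,.ofNat 0,.ofNat 2]),
  (1178,30,[.ofNat 0,.ofNat 0,.ofNat 0,.ofNat 0,.ofNat 0,.ofNat 0,.ofNat 0,.ofNat 0,.ofNat 0,.ofNat 0,.ofNat 0,.ofNat 0,.ofNat 0,.ofNat 0,.ofNat 0,.ofNat 0,.ofNat 0,.ofNat 0,.ofNat 0,.ofNat 0,.ofNat 1,.negSucc 0,.ofNat 1,.negSucc 0,.ofNat 0,.ofNat 2,.ofNat 0,.ofNat 0,.ofNat 0,.ofNat 0,.ofNat 0,.ofNat 0,.ofNat 1]),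
  (1252,11,[.ofNat 4,.ofNat 1,.negSucc 8,.negSucc 5,.negSucc 6,.ofNat 8,.ofNat 0,.negSucc 1,.ofNat 2,.negSucc 6,.ofNat 0,.ofNat 21,.ofNat 35,.negSucc 22,.ofNat 0,.ofNat 0,.ofNat 1,.ofNat 0,.ofNat 0,.ofNat 1,.negSucc 83,.negSucc 48,.negSucc 110,.ofNat 4,.negSucc 14,.negSucc 0,.negSucc 2,.ofNat 28,.negSucc 15,.negSucc 12,.negSucc 1,.ofNat 29,.ofNat 6,.negSucc 4,.negSucc 4,.negSucc 0,.ofNat 0,.ofNat 1,.ofNat 5,.negSucc 0,.negSucc 0,.ofNat 0,.ofNat 0,.ofNat 15,.negSucc 16,.ofNat 19,.ofNat 2,.ofNat 8,.ofNat 0,.ofNat 13,.ofNat 1]),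
  (1280,2,[.ofNat 0,.ofNat 0,.ofNat 0,.ofNat 0,.ofNat 0,.ofNat 0,.ofNat 0,.ofNat 0,.ofNat 0,.ofNat 0,.ofNat 0,.ofNat 0,.ofNat 0,.ofNat 0,.ofNat 0,.ofNat 0,.negSucc 1,.ofNat 0,.ofNat 0,.ofNat 0,.negSucc 3,.ofNat 0,.ofNat 2,.ofNat 0,.negSucc 5,.ofNat 0,.ofNat 0,.ofNat 2,.ofNat 0,.ofNat 0,.ofNat 0,.ofNat 0,.ofNat 0,.ofNat 0,.ofNat 0,.ofNat 0,.ofNat 0,.negSucc 1,.ofNat 0,.ofNat 0,.ofNat 2])]
set_option maxHeartbeats 0 in
set_option maxRecDepth 100000 in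
theorem hF : ∀ x ∈ rowsF, chkRow C.τ d n RL 37 (n * d) 6423 (toV 1099511627776 51 tv) x = true := by
  have h : rowsF.all (chkRow τ d n RL 37 (n * d) 6423 (toV 1099511627776 51 tv)) = true := by decide +kernel
  exact fun x hx => List.all_eq_true.1 h x hx
set_option maxRecDepth 100000 in
/-- A combination. -/
def cb0 : List (ℕ × ℤ) := [(7,.ofNat 1),(41,.negSucc 0),(48,.negSucc 0)]
set_option maxHeartbeats 0 in
set_option maxRecDepth 100000 in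
theorem hcb0 : chkComb 20 31 rowsF 0 0 (0) cb0 = true := by decide +kernel
set_option maxRecDepth 100000 in
/-- A combination. -/
def cb1 : List (ℕ × ℤ) := [(1,.ofNat 1),(25,.negSucc 0),(29,.ofNat 1),(32,.negSucc 0),(33,.ofNat 1),(44,.ofNat 1),(50,.negSucc 1),(51,.negSucc 2)]
set_option maxHeartbeats 0 in
set_option maxRecDepth 100000 in
theorem hcb1 : chkComb 20 31 rowsF 0 1 (0) cb1 = true := by decide +kernel
set_option maxRecDepth 100000 in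
/-- A combination. -/
def cb2 : List (ℕ × ℤ) := [(0,.negSucc 108590152),(1,.negSucc 385915705),(2,.ofNat 3260922),(3,.negSucc 2071165),(4,.ofNat 91034221),(5,.negSucc 266786169),(6,.ofNat 179524),(7,.negSucc 1711515893),(8,.ofNat 8200128),(9,.negSucc 1),(10,.ofNat 7226576),(11,.ofNat 4131434),(12,.ofNat 357474963),(13,.negSucc 267409),(14,.ofNat 154416570),(15,.negSucc 1056154709),(16,.negSucc 18486903),(17,.ofNat 10327168),(19,.ofNat 556330700),(20,.ofNat 1035856),(21,.ofNat 655439336),(22,.negSucc 6206633),(23,.negSucc 3876449),(24,.negSucc 5945543),(25,.ofNat 133705),(26,.negSucc 261089),(27,.negSucc 78537),(28,.negSucc 254523965),(29,.negSucc 710411507),(30,.negSucc 1211981099),(31,.negSucc 377913945),(32,.ofNat 404577722),(33,.negSucc 4034843251),(34,.negSucc 153380931),(35,.ofNat 257166),(36,.negSucc 596678527),(37,.ofNat 221609640),(38,.negSucc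 217),(39,.negSucc 132139613),(40,.ofNat 604706684),(41,.ofNat 1427443324),(42,.ofNat 272469045),(43,.ofNat 1036292),(44,.negSucc 4031736447),(45,.negSucc 26259597),(46,.negSucc 285168675),(47,.negSucc 1025827),(48,.ofNat 15898),(49,.ofNat 2149264),(50,.ofNat 3853064903),(51,.ofNat 5444359336),(52,.ofNat 473392108),(53,.negSucc 1927227827),(54,.ofNat 218),(55,.ofNat 76690466)]
set_option maxHeartbeats 0 in
set_option maxRecDepth 100000 in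
theorem hcb2 : chkComb 20 31 rowsF 0 2 (0) cb2 = true := by decide +kernel
set_option maxRecDepth 100000 in
/-- A combination. -/
def cb3 : List (ℕ × ℤ) := [(50,.negSucc 0),(51,.negSucc 1)]
set_option maxHeartbeats 0 in
set_option maxRecDepth 100000 in
theorem hcb3 : chkComb 20 31 rowsF 0 3 (0) cb3 = true := by decide +kernel
set_option maxRecDepth 100000 in
/-- A combination. -/
def cb4 : List (ℕ × ℤ) := [(0,.ofNat 1989294),(1,.ofNat 7070298),(2,.negSucc 59803),(3,.ofNat 37986),(4,.negSucc 1667323),(5,.ofNat 4887724),(6,.negSucc 3301),(7,.ofNat 31355774),(8,.negSucc 150221),(10,.negSucc 132531),(11,.negSucc 75769),(12,.negSucc 6548515),(13,.ofNat 4904),(14,.negSucc 2829065),(15,.ofNat 19350452),(16,.ofNat 338496),(17,.negSucc 189395),(19,.negSucc 10192471),(20,.negSucc 18997),(21,.negSucc 12007965),(22,.ofNat 113830),(23,.ofNat 71092),(24,.ofNat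 109040),(25,.negSucc 2451),(26,.ofNat 4788),(27,.ofNat 1440),(28,.ofNat 4662676),(29,.ofNat 13014776),(30,.ofNat 22205548),(31,.ofNat 6923930),(32,.negSucc 7412539),(33,.ofNat 73921618),(34,.ofNat 2810072),(35,.negSucc 4715),(36,.ofNat 10931992),(37,.negSucc 4060241),(38,.ofNat 4),(39,.ofNat 2420514),(40,.negSucc 11079229),(41,.negSucc 26150873),(42,.negSucc 4991863),(43,.negSucc 19005),(44,.ofNat 73864638),(45,.ofNat 481562),(46,.ofNat 5224669),(47,.ofNat 18812),(48,.negSucc 291),(49,.negSucc 39417),(50,.negSucc 70590241),(51,.negSucc 99743967),(52,.negSucc 8672977),(53,.ofNat 35309372),(54,.negSucc 3),(55,.negSucc 1405035)]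
set_option maxHeartbeats 0 in
set_option maxRecDepth 100000 in
theorem hcb4 : chkComb 20 31 rowsF 0 4 (0) cb4 = true := by decide +kernel
set_option maxRecDepth 100000 in
/-- A combination. -/
def cb5 : List (ℕ × ℤ) := [(0,.ofNat 214187528),(1,.ofNat 761196483),(2,.negSucc 6432133),(3,.ofNat 4085353),(4,.negSucc 179558669),(5,.ofNat 526220148),(6,.negSucc 354121),(7,.ofNat 3375864043),(8,.negSucc 16174253),(10,.negSucc 14254337),(11,.negSucc 8149205),(12,.negSucc 705096849),(13,.ofNat 527466),(14,.negSucc 304577761),(15,.ofNat 2083205610),(16,.ofNat 36463906),(17,.negSucc 20370219),(18,.negSucc 1),(19,.negSucc 1097329903),(20,.negSucc 2043211),(21,.negSucc 1292815433),(22,.ofNat 12242514),(23,.ofNat 7646250),(24,.ofNat 11727518),(25,.negSucc 263732),(26,.ofNat 514996),(27,.ofNat 154918),(28,.ofNat 502032710),(29,.ofNat 1401244130),(30,.ofNat 2390564644),(31,.ofNat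 745413818),(32,.negSucc 798007068),(33,.ofNat 7958493398),(34,.ofNat 302534978),(35,.negSucc 507255),(36,.ofNat 1176914466),(37,.negSucc 437112499),(38,.ofNat 430),(39,.ofNat 260636718),(40,.negSucc 1192749911),(41,.negSucc 2815546382),(42,.negSucc 537429343),(43,.negSucc 2044073),(44,.ofNat 7952365263),(45,.ofNat 51796512),(46,.ofNat 562478926),(47,.ofNat 2023434),(48,.negSucc 31357),(49,.negSucc 4239410),(50,.negSucc 7599943902),(51,.negSucc 10738679268),(52,.negSucc 933738527),(53,.ofNat 3801346767),(54,.negSucc 429),(55,.negSucc 151267489)]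
set_option maxHeartbeats 0 in
set_option maxRecDepth 100000 in
theorem hcb5 : chkComb 20 31 rowsF 0 5 (0) cb5 = true := by decide +kernel
set_option maxRecDepth 100000 in
/-- A combination. -/
def cb6 : List (ℕ × ℤ) := [(1,.ofNat 2),(12,.ofNat 1),(25,.negSucc 1),(29,.ofNat 2),(32,.negSucc 1),(33,.ofNat 2),(44,.ofNat 2),(48,.negSucc 1),(50,.negSucc 3),(51,.negSucc 5)]
set_option maxHeartbeats 0 in
set_option maxRecDepth 100000 in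
theorem hcb6 : chkComb 20 31 rowsF 0 6 (0) cb6 = true := by decide +kernel
set_option maxRecDepth 100000 in
/-- A combination. -/
def cb7 : List (ℕ × ℤ) := [(0,.negSucc 217180305),(1,.negSucc 771831411),(2,.ofNat 6521844),(3,.negSucc 4142331),(4,.ofNat 182068442),(5,.negSucc 533572339),(6,.ofNat 359048),(7,.negSucc 3423031786),(8,.ofNat 16400256),(9,.negSucc 3),(10,.ofNat 14453152),(11,.ofNat 8262868),(12,.ofNat 714949926),(13,.negSucc 534819),(14,.ofNat 308833140),(15,.negSucc 2112309420),(16,.negSucc 36973807),(17,.ofNat 20654336),(19,.ofNat 1112661400),(20,.ofNat 2071712),(21,.ofNat 1310878672),(22,.negSucc 12413267),(23,.negSucc 7752899),(24,.negSucc 11891087),(25,.ofNat 267410),(26,.negSucc 522179),(27,.negSucc 157075),(28,.negSucc 509047931),(29,.negSucc 1420823015),(30,.negSucc 2423962199),(31,.negSucc 755827891),(32,.ofNat 809155444),(33,.negSucc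 8069686503),(34,.negSucc 306761863),(35,.ofNat 514332),(36,.negSucc 1193357055),(37,.ofNat 443219280),(38,.negSucc 435),(39,.negSucc 264279227),(40,.ofNat 1209413368),(41,.ofNat 2854886647),(42,.ofNat 544938090),(43,.ofNat 2072584),(44,.negSucc 8063472895),(45,.negSucc 52519195),(46,.negSucc 570337351),(47,.negSucc 2051655),(48,.ofNat 31794),(49,.ofNat 4298528),(50,.ofNat 7706129806),(51,.ofNat 10888718672),(52,.ofNat 946784216),(53,.negSucc 3854455655),(54,.ofNat 436),(55,.ofNat 153380932)]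
set_option maxHeartbeats 0 in
set_option maxRecDepth 100000 in
theorem hcb7 : chkComb 20 31 rowsF 0 7 (0) cb7 = true := by decide +kernel
set_option maxRecDepth 100000 in
/-- A combination. -/
def cb8 : List (ℕ × ℤ) := [(7,.ofNat 1),(12,.ofNat 1),(32,.negSucc 0),(41,.negSucc 0),(48,.negSucc 2),(50,.negSucc 2),(51,.negSucc 5)]
set_option maxHeartbeats 0 in
set_option maxRecDepth 100000 in
theorem hcb8 : chkComb 20 31 rowsF 0 8 (0) cb8 = true := by decide +kernel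
set_option maxRecDepth 100000 in
/-- A combination. -/
def cb9 : List (ℕ × ℤ) := [(0,.negSucc 995752),(1,.negSucc 3538774),(2,.ofNat 29898),(3,.negSucc 18990),(4,.ofNat 834779),(5,.negSucc 2446383),(6,.ofNat 1646),(7,.negSucc 15694323),(8,.ofNat 75194),(10,.ofNat 66262),(11,.ofNat 37882),(12,.ofNat 3278006),(13,.negSucc 2451),(14,.ofNat 1415972),(15,.negSucc 9684733),(16,.negSucc 169526),(17,.ofNat 94692),(19,.ofNat 5101459),(20,.ofNat 9498),(21,.ofNat 6010272),(22,.negSucc 56909),(23,.negSucc 35543),(24,.negSucc 54515),(25,.ofNat 1226),(26,.negSucc 2393),(27,.negSucc 719),(28,.negSucc 2333953),(29,.negSucc 6514367),(30,.negSucc 11113627),(31,.negSucc 3465398),(32,.ofNat 3709891),(33,.negSucc 36998815),(34,.negSucc 1406475),(35,.ofNat 2358),(36,.negSucc 5471429),(37,.ofNat 2032118),(38,.negSucc 1),(39,.negSucc 1211711),(40,.ofNat 5545042),(41,.ofNat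 13089440),(42,.ofNat 2498494),(43,.ofNat 9502),(44,.negSucc 36970328),(45,.negSucc 240784),(46,.negSucc 2614943),(47,.negSucc 9405),(48,.ofNat 144),(49,.ofNat 19707),(50,.ofNat 35331969),(51,.ofNat 49923871),(52,.ofNat 4340922),(53,.negSucc 17672322),(54,.ofNat 2),(55,.ofNat 703238)]
set_option maxHeartbeats 0 in
set_option maxRecDepth 100000 in
theorem hcb9 : chkComb 20 31 rowsF 0 9 (0) cb9 = true := by decide +kernel
set_option maxRecDepth 100000 in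
/-- A combination. -/
def cb10 : List (ℕ × ℤ) := [(0,.ofNat 428375056),(1,.ofNat 1522392966),(2,.negSucc 12864267),(3,.ofNat 8170706),(4,.negSucc 359117339),(5,.ofNat 1052440296),(6,.negSucc 708243),(7,.ofNat 6751728087),(8,.negSucc 32348507),(10,.negSucc 28508675),(11,.negSucc 16298411),(12,.negSucc 1410193699),(13,.ofNat 1054932),(14,.negSucc 609155523),(15,.ofNat 4166411220),(16,.ofNat 72927812),(17,.negSucc 40740439),(18,.negSucc 3),(19,.negSucc 2194659807),(20,.negSucc 4086423),(21,.negSucc 2585630867),(22,.ofNat 24485028),(23,.ofNat 15292500),(24,.ofNat 23455036),(25,.negSucc 527465),(26,.ofNat 1029992),(27,.ofNat 309836),(28,.ofNat 1004065420),(29,.ofNat 2802488260),(30,.ofNat 4781129288),(31,.ofNat 1490827636),(32,.negSucc 1596014137),(33,.ofNat 15916986796),(34,.ofNat 605069956),(35,.negSucc 1014511),(36,.ofNat 2353828932),(37,.negSucc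 874224999),(38,.ofNat 860),(39,.ofNat 521273436),(40,.negSucc 2385499823),(41,.negSucc 5631092766),(42,.negSucc 1074858687),(43,.negSucc 4088147),(44,.ofNat 15904730526),(45,.ofNat 103593024),(46,.ofNat 1124957852),(47,.ofNat 4046868),(48,.negSucc 62717),(49,.negSucc 8478821),(50,.negSucc 15199887805),(51,.negSucc 21477358537),(52,.negSucc 1867477055),(53,.ofNat 7602693534),(54,.negSucc 859),(55,.negSucc 302534979)]
set_option maxHeartbeats 0 in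
set_option maxRecDepth 100000 in
theorem hcb10 : chkComb 20 31 rowsF 0 10 (0) cb10 = true := by decide +kernel
set_option maxRecDepth 100000 in
/-- A combination. -/
def cb11 : List (ℕ × ℤ) := [(0,.negSucc 1497229),(1,.negSucc 5320058),(2,.ofNat 44813),(3,.negSucc 28462),(4,.ofNat 1255944),(5,.negSucc 3677978),(6,.ofNat 2454),(7,.negSucc 23596452),(8,.ofNat 113067),(9,.negSucc 2),(10,.ofNat 99316),(11,.ofNat 56779),(12,.ofNat 4929754),(13,.negSucc 3672),(14,.ofNat 2128739),(15,.negSucc 14558493),(16,.negSucc 255258),(17,.ofNat 141928),(19,.ofNat 7669650),(20,.ofNat 14236),(21,.ofNat 9036408),(22,.negSucc 85298),(23,.negSucc 53276),(24,.negSucc 81709),(25,.ofNat 1835),(26,.negSucc 3588),(27,.negSucc 1076),(28,.negSucc 3509805),(29,.negSucc 9794911),(30,.negSucc 16706229),(31,.negSucc 5209450),(32,.ofNat 5576557),(33,.negSucc 55624771),(34,.negSucc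 2114505),(35,.ofNat 3535),(36,.negSucc 8225137),(37,.ofNat 3054782),(38,.negSucc 2),(39,.negSucc 1822586),(40,.ofNat 8335470),(41,.ofNat 19681158),(42,.ofNat 3756270),(43,.ofNat 14242),(44,.negSucc 55582075),(45,.negSucc 361122),(46,.negSucc 3931078),(47,.negSucc 14097),(48,.ofNat 221),(49,.ofNat 29528),(50,.ofNat 53120840),(51,.ofNat 75058833),(52,.ofNat 6526092),(53,.negSucc 26567071),(54,.ofNat 3),(55,.ofNat 1057253)]
set_option maxHeartbeats 0 in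
set_option maxRecDepth 100000 in
theorem hcb11 : chkComb 20 31 rowsF 0 11 (0) cb11 = true := by decide +kernel
set_option maxRecDepth 100000 in
/-- A combination. -/
def cb12 : List (ℕ × ℤ) := [(1,.ofNat 2),(25,.negSucc 1),(29,.ofNat 2),(32,.negSucc 1),(33,.ofNat 1),(44,.ofNat 1),(50,.negSucc 4),(51,.negSucc 8)]
set_option maxHeartbeats 0 in
set_option maxRecDepth 100000 in
theorem hcb12 : chkComb 20 31 rowsF 0 12 (0) cb12 = true := by decide +kernel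
set_option maxRecDepth 100000 in
/-- A combination. -/
def cb13 : List (ℕ × ℤ) := [(0,.negSucc 3980799),(1,.negSucc 14147844),(2,.ofNat 119600),(3,.negSucc 75967),(4,.ofNat 3336882),(5,.negSucc 9780491),(6,.ofNat 6594),(7,.negSucc 62744425),(8,.ofNat 300610),(10,.ofNat 265056),(11,.ofNat 151533),(12,.ofNat 13104528),(13,.negSucc 9807),(14,.ofNat 5661010),(15,.negSucc 38719919),(16,.negSucc 677549),(17,.ofNat 378780),(19,.ofNat 20395390),(20,.ofNat 37994),(21,.ofNat 24028510),(22,.negSucc 227649),(23,.negSucc 142179),(24,.negSucc 218071),(25,.ofNat 4901),(26,.negSucc 9575),(27,.negSucc 2879),(28,.negSucc 9330583),(29,.negSucc 26043507),(30,.negSucc 44432803),(31,.negSucc 13854727),(32,.ofNat 14832319),(33,.negSucc 147919248),(34,.negSucc 5623023),(35,.ofNat 9432),(36,.negSucc 21874851),(37,.ofNat 8124478),(38,.negSucc 7),(39,.negSucc 4843937),(40,.ofNat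 22169314),(41,.ofNat 52329758),(42,.ofNat 9988852),(43,.ofNat 38010),(44,.negSucc 147805294),(45,.negSucc 963131),(46,.negSucc 10454557),(47,.negSucc 37623),(48,.ofNat 584),(49,.ofNat 78832),(50,.ofNat 141254174),(51,.ofNat 199591701),(52,.ofNat 17354822),(53,.negSucc 70654019),(54,.ofNat 8),(55,.ofNat 2811512)]
set_option maxHeartbeats 0 in
set_option maxRecDepth 100000 in
theorem hcb13 : chkComb 20 31 rowsF 0 13 (0) cb13 = true := by decide +kernel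
set_option maxRecDepth 100000 in
/-- A combination. -/
def cb14 : List (ℕ × ℤ) := [(0,.ofNat 428375056),(1,.ofNat 1522392968),(2,.negSucc 12864267),(3,.ofNat 8170706),(4,.negSucc 359117339),(5,.ofNat 1052440296),(6,.negSucc 708243),(7,.ofNat 6751728085),(8,.negSucc 32348507),(10,.negSucc 28508675),(11,.negSucc 16298411),(12,.negSucc 1410193699),(13,.ofNat 1054932),(14,.negSucc 609155523),(15,.ofNat 4166411220),(16,.ofNat 72927812),(17,.negSucc 40740439),(18,.negSucc 3),(19,.negSucc 2194659807),(20,.negSucc 4086423),(21,.negSucc 2585630867),(22,.ofNat 24485028),(23,.ofNat 15292500),(24,.ofNat 23455036),(25,.negSucc 527467),(26,.ofNat 1029992),(27,.ofNat 309836),(28,.ofNat 1004065420),(29,.ofNat 2802488262),(30,.ofNat 4781129288),(31,.ofNat 1490827636),(32,.negSucc 1596014139),(33,.ofNat 15916986798),(34,.ofNat 605069956),(35,.negSucc 1014511),(36,.ofNat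 2353828932),(37,.negSucc 874224999),(38,.ofNat 860),(39,.ofNat 521273436),(40,.negSucc 2385499823),(41,.negSucc 5631092765),(42,.negSucc 1074858687),(43,.negSucc 4088147),(44,.ofNat 15904730528),(45,.ofNat 103593024),(46,.ofNat 1124957852),(47,.ofNat 4046868),(48,.negSucc 62715),(49,.negSucc 8478821),(50,.negSucc 15199887809),(51,.negSucc 21477358543),(52,.negSucc 1867477055),(53,.ofNat 7602693534),(54,.negSucc 859),(55,.negSucc 302534979)]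
set_option maxHeartbeats 0 in
set_option maxRecDepth 100000 in
theorem hcb14 : chkComb 20 31 rowsF 0 14 (0) cb14 = true := by decide +kernel
set_option maxRecDepth 100000 in
/-- A combination. -/
def cb15 : List (ℕ × ℤ) := [(0,.negSucc 108590152),(1,.negSucc 385915705),(2,.ofNat 3260922),(3,.negSucc 2071165),(4,.ofNat 91034221),(5,.negSucc 266786169),(6,.ofNat 179524),(7,.negSucc 1711515893),(8,.ofNat 8200128),(9,.negSucc 1),(10,.ofNat 7226576),(11,.ofNat 4131434),(12,.ofNat 357474963),(13,.negSucc 267409),(14,.ofNat 154416570),(15,.negSucc 1056154709),(16,.negSucc 18486903),(17,.ofNat 10327168),(19,.ofNat 556330700),(20,.ofNat 1035856),(21,.ofNat 655439336),(22,.negSucc 6206633),(23,.negSucc 3876449),(24,.negSucc 5945543),(25,.ofNat 133705),(26,.negSucc 261089),(27,.negSucc 78537),(28,.negSucc 254523965),(29,.negSucc 710411508),(30,.negSucc 1211981099),(31,.negSucc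 377913945),(32,.ofNat 404577722),(33,.negSucc 4034843251),(34,.negSucc 153380931),(35,.ofNat 257166),(36,.negSucc 596678527),(37,.ofNat 221609640),(38,.negSucc 217),(39,.negSucc 132139613),(40,.ofNat 604706684),(41,.ofNat 1427443324),(42,.ofNat 272469045),(43,.ofNat 1036292),(44,.negSucc 4031736447),(45,.negSucc 26259597),(46,.negSucc 285168675),(47,.negSucc 1025827),(48,.ofNat 15898),(49,.ofNat 2149264),(50,.ofNat 3853064903),(51,.ofNat 5444359336),(52,.ofNat 473392108),(53,.negSucc 1927227827),(54,.ofNat 218),(55,.ofNat 76690466)]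
set_option maxHeartbeats 0 in
set_option maxRecDepth 100000 in
theorem hcb15 : chkComb 20 31 rowsF 0 15 (0) cb15 = true := by decide +kernel
set_option maxRecDepth 100000 in
/-- A combination. -/
def cb16 : List (ℕ × ℤ) := [(0,.negSucc 110586880),(1,.negSucc 393010592),(2,.ofNat 3320678),(3,.negSucc 2109121),(4,.ofNat 92709189),(5,.negSucc 271691165),(6,.ofNat 182796),(7,.negSucc 1742984430),(8,.ofNat 8350916),(9,.negSucc 5),(10,.ofNat 7359016),(11,.ofNat 4207150),(12,.ofNat 364049385),(13,.negSucc 272307),(14,.ofNat 157255477),(15,.negSucc 1075570031),(16,.negSucc 18827331),(17,.ofNat 10516432),(19,.ofNat 566559034),(20,.ofNat 1054839),(21,.ofNat 667490406),(22,.negSucc 6320381),(23,.negSucc 3947495),(24,.negSucc 6054505),(25,.ofNat 136154),(26,.negSucc 265875),(27,.negSucc 79973),(28,.negSucc 259204709),(29,.negSucc 723474150),(30,.negSucc 1234260651),(31,.negSucc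 384861313),(32,.ofNat 412014655),(33,.negSucc 4109025078),(34,.negSucc 156200859),(35,.ofNat 261880),(36,.negSucc 607647643),(37,.ofNat 225683522),(38,.negSucc 221),(39,.negSucc 134570263),(40,.ofNat 615822930),(41,.ofNat 1453690407),(42,.ofNat 277478449),(43,.ofNat 1055284),(44,.negSucc 4105861339),(45,.negSucc 26741169),(46,.negSucc 290411199),(47,.negSucc 1044627),(48,.ofNat 16193),(49,.ofNat 2188640),(50,.ofNat 3923907525),(51,.ofNat 5544458726),(52,.ofNat 482095374),(53,.negSucc 1962657917),(54,.ofNat 222),(55,.ofNat 78100430)]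
set_option maxHeartbeats 0 in
set_option maxRecDepth 100000 in
theorem hcb16 : chkComb 20 31 rowsF 0 16 (0) cb16 = true := by decide +kernel
set_option maxRecDepth 100000 in
/-- A combination. -/
def cb17 : List (ℕ × ℤ) := [(0,.negSucc 2495181),(1,.negSucc 8866494),(2,.ofNat 74769),(3,.negSucc 47488),(4,.ofNat 2092608),(5,.negSucc 6129646),(6,.ofNat 4106),(7,.negSucc 39324695),(8,.ofNat 188425),(9,.negSucc 4),(10,.ofNat 165704),(11,.ofNat 94733),(12,.ofNat 8214919),(13,.negSucc 6127),(14,.ofNat 3547770),(15,.negSucc 24264009),(16,.negSucc 425184),(17,.ofNat 236800),(18,.negSucc 4),(19,.ofNat 12782109),(20,.ofNat 23757),(21,.ofNat 15059693),(22,.negSucc 142316),(23,.negSucc 88889),(24,.negSucc 136328),(25,.ofNat 3064),(26,.negSucc 5987),(27,.negSucc 1797),(28,.negSucc 5848855),(29,.negSucc 16323423),(30,.negSucc 27843685),(31,.negSucc 8682288),(32,.ofNat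 9294438),(33,.negSucc 92703496),(34,.negSucc 3524022),(35,.ofNat 5898),(36,.negSucc 13708319),(37,.ofNat 5091257),(38,.negSucc 4),(39,.negSucc 3036968),(40,.ofNat 13892403),(41,.ofNat 32798972),(42,.ofNat 6260164),(43,.ofNat 23762),(44,.negSucc 92632255),(45,.negSucc 602350),(46,.negSucc 6551643),(47,.negSucc 23521),(48,.ofNat 362),(49,.ofNat 49267),(50,.ofNat 88529277),(51,.ofNat 125090679),(52,.ofNat 10876375),(53,.negSucc 44277398),(54,.ofNat 5),(55,.ofNat 1762009)]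
set_option maxHeartbeats 0 in
set_option maxRecDepth 100000 in
theorem hcb17 : chkComb 20 31 rowsF 0 17 (0) cb17 = true := by decide +kernel
set_option maxRecDepth 100000 in
/-- A combination. -/
def cb18 : List (ℕ × ℤ) := [(0,.negSucc 1105),(1,.negSucc 3625),(2,.negSucc 3),(3,.ofNat 2),(4,.ofNat 1117),(5,.negSucc 2521),(6,.negSucc 4),(7,.negSucc 16438),(8,.ofNat 83),(10,.negSucc 3),(11,.negSucc 2),(12,.ofNat 3748),(14,.ofNat 1439),(15,.negSucc 9507),(16,.negSucc 278),(17,.negSucc 5),(19,.ofNat 5223),(20,.negSucc 0),(21,.ofNat 6289),(22,.ofNat 5),(23,.ofNat 2),(24,.ofNat 4),(28,.negSucc 2615),(29,.negSucc 6979),(30,.negSucc 10853),(31,.negSucc 3433),(32,.ofNat 3621),(33,.negSucc 38007),(34,.negSucc 1439),(36,.negSucc 5433),(37,.ofNat 1997),(39,.negSucc 1454),(40,.ofNat 5427),(41,.ofNat 14005),(42,.ofNat 2562),(43,.negSucc 0),(44,.negSucc 38010),(45,.negSucc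 3),(46,.negSucc 2609),(49,.negSucc 1),(50,.ofNat 36846),(51,.ofNat 51883),(52,.ofNat 4433),(53,.negSucc 17637),(55,.ofNat 720)]
set_option maxHeartbeats 0 in
set_option maxRecDepth 100000 in
theorem hcb18 : chkComb 20 31 rowsF 0 18 (0) cb18 = true := by decide +kernel
set_option maxRecDepth 100000 in
/-- A combination. -/
def cb19 : List (ℕ × ℤ) := [(0,.ofNat 642562584),(1,.ofNat 2283589449),(2,.negSucc 19296401),(3,.ofNat 12256059),(4,.negSucc 538676009),(5,.ofNat 1578660444),(6,.negSucc 1062365),(7,.ofNat 10127592129),(8,.negSucc 48522761),(10,.negSucc 42763013),(11,.negSucc 24447617),(12,.negSucc 2115290549),(13,.ofNat 1582398),(14,.negSucc 913733285),(15,.ofNat 6249616830),(16,.ofNat 109391718),(17,.negSucc 61110659),(18,.negSucc 5),(19,.negSucc 3291989711),(20,.negSucc 6129635),(21,.negSucc 3878446301),(22,.ofNat 36727542),(23,.ofNat 22938750),(24,.ofNat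 35182554),(25,.negSucc 791198),(26,.ofNat 1544988),(27,.ofNat 464754),(28,.ofNat 1506098130),(29,.ofNat 4203732389),(30,.ofNat 7171693932),(31,.ofNat 2236241454),(32,.negSucc 2394021206),(33,.ofNat 23875480195),(34,.ofNat 907604934),(35,.negSucc 1521767),(36,.ofNat 3530743398),(37,.negSucc 1311337499),(38,.ofNat 1290),(39,.ofNat 781910154),(40,.negSucc 3578249735),(41,.negSucc 8446639148),(42,.negSucc 1612288031),(43,.negSucc 6132221),(44,.ofNat 23857095789),(45,.ofNat 155389536),(46,.ofNat 1687436778),(47,.ofNat 6070302),(48,.negSucc 94073),(49,.negSucc 12718232),(50,.negSucc 22799831710),(51,.negSucc 32216037810),(52,.negSucc 2801215583),(53,.ofNat 11404040302),(54,.negSucc 1289),(55,.negSucc 453802469)]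
set_option maxHeartbeats 0 in
set_option maxRecDepth 100000 in
theorem hcb19 : chkComb 20 31 rowsF 0 19 (0) cb19 = true := by decide +kernel
set_option maxRecDepth 100000 in
/-- A combination. -/
def cb20 : List (ℕ × ℤ) := [(0,.ofNat 638581784),(1,.ofNat 2269441601),(2,.negSucc 19176801),(3,.ofNat 12180091),(4,.negSucc 535339127),(5,.ofNat 1568879952),(6,.negSucc 1055771),(7,.ofNat 10064847703),(8,.negSucc 48222151),(10,.negSucc 42497957),(11,.negSucc 24296083),(12,.negSucc 2102186021),(13,.ofNat 1572590),(14,.negSucc 908072275),(15,.ofNat 6210896910),(16,.ofNat 108714168),(17,.negSucc 60731879),(18,.negSucc 5),(19,.negSucc 3271594321),(20,.negSucc 6091640),(21,.negSucc 3854417791),(22,.ofNat 36499892),(23,.ofNat 22796570),(24,.ofNat 34964482),(25,.negSucc 786294),(26,.ofNat 1535412),(27,.ofNat 461874),(28,.ofNat 1496767546),(29,.ofNat 4177688879),(30,.ofNat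 7127261128),(31,.ofNat 2222386726),(32,.negSucc 2379188884),(33,.ofNat 23727560941),(34,.ofNat 901981910),(35,.negSucc 1512335),(36,.ofNat 3508868546),(37,.negSucc 1303213021),(38,.ofNat 1282),(39,.ofNat 777066216),(40,.negSucc 3556080421),(41,.negSucc 8394309390),(42,.negSucc 1602299179),(43,.negSucc 6094211),(44,.ofNat 23709290491),(45,.ofNat 154426404),(46,.ofNat 1676982220),(47,.ofNat 6032678),(48,.negSucc 93489),(49,.negSucc 12639400),(50,.negSucc 22658577528),(51,.negSucc 32016446096),(52,.negSucc 2783860761),(53,.ofNat 11333386280),(54,.negSucc 1281),(55,.negSucc 450990957)]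
set_option maxHeartbeats 0 in
set_option maxRecDepth 100000 in
theorem hcb20 : chkComb 20 31 rowsF 0 20 (0) cb20 = true := by decide +kernel
set_option maxRecDepth 100000 in
/-- A combination. -/
def cb21 : List (ℕ × ℤ) := [(0,.negSucc 217180305),(1,.negSucc 771831409),(2,.ofNat 6521844),(3,.negSucc 4142331),(4,.ofNat 182068442),(5,.negSucc 533572339),(6,.ofNat 359048),(7,.negSucc 3423031786),(8,.ofNat 16400256),(9,.negSucc 3),(10,.ofNat 14453152),(11,.ofNat 8262868),(12,.ofNat 714949926),(13,.negSucc 534819),(14,.ofNat 308833140),(15,.negSucc 2112309420),(16,.negSucc 36973807),(17,.ofNat 20654336),(19,.ofNat 1112661400),(20,.ofNat 2071712),(21,.ofNat 1310878672),(22,.negSucc 12413267),(23,.negSucc 7752899),(24,.negSucc 11891087),(25,.ofNat 267408),(26,.negSucc 522179),(27,.negSucc 157075),(28,.negSucc 509047931),(29,.negSucc 1420823013),(30,.negSucc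 2423962200),(31,.negSucc 755827891),(32,.ofNat 809155442),(33,.negSucc 8069686501),(34,.negSucc 306761863),(35,.ofNat 514332),(36,.negSucc 1193357055),(37,.ofNat 443219280),(38,.negSucc 435),(39,.negSucc 264279227),(40,.ofNat 1209413368),(41,.ofNat 2854886647),(42,.ofNat 544938090),(43,.ofNat 2072584),(44,.negSucc 8063472893),(45,.negSucc 52519195),(46,.negSucc 570337351),(47,.negSucc 2051655),(48,.ofNat 31794),(49,.ofNat 4298528),(50,.ofNat 7706129802),(51,.ofNat 10888718666),(52,.ofNat 946784216),(53,.negSucc 3854455655),(54,.ofNat 436),(55,.ofNat 153380932)]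
set_option maxHeartbeats 0 in
set_option maxRecDepth 100000 in
theorem hcb21 : chkComb 20 31 rowsF 0 21 (0) cb21 = true := by decide +kernel
set_option maxRecDepth 100000 in
/-- A combination. -/
def cb22 : List (ℕ × ℤ) := [(0,.ofNat 105595693),(1,.ofNat 375275588),(2,.negSucc 3171295),(3,.ofNat 2014240),(4,.negSucc 88522332),(5,.ofNat 259430212),(6,.negSucc 174615),(7,.ofNat 1664322992),(8,.negSucc 7973993),(9,.negSucc 3),(10,.negSucc 7027943),(11,.negSucc 4017875),(12,.negSucc 347615454),(13,.ofNat 260064),(14,.negSucc 150159091),(15,.ofNat 1027037724),(16,.ofNat 17976386),(17,.negSucc 10043311),(19,.negSucc 540991399),(20,.negSucc 1007383),(21,.negSucc 637366519),(22,.ofNat 6036036),(23,.ofNat 3769896),(24,.ofNat 5782124),(25,.negSucc 130034),(26,.ofNat 253912),(27,.ofNat 76384),(28,.ofNat 247504354),(29,.ofNat 690821684),(30,.ofNat 1178568642),(31,.ofNat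 367495044),(32,.negSucc 393424607),(33,.ofNat 3923593708),(34,.ofNat 149151920),(35,.negSucc 250095),(36,.ofNat 580228252),(37,.negSucc 215500075),(38,.ofNat 212),(39,.ofNat 128494440),(40,.negSucc 588035744),(41,.negSucc 1388081011),(42,.negSucc 264956504),(43,.negSucc 1007807),(44,.ofNat 3920572296),(45,.ofNat 25537352),(46,.ofNat 277306518),(47,.ofNat 997632),(48,.negSucc 15457),(49,.negSucc 2090207),(50,.negSucc 3746823222),(51,.negSucc 5294241669),(52,.negSucc 460339923),(53,.ofNat 1874093684),(54,.negSucc 211),(55,.negSucc 74575959)]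
set_option maxHeartbeats 0 in
set_option maxRecDepth 100000 in
theorem hcb22 : chkComb 20 31 rowsF 0 22 (0) cb22 = true := by decide +kernel
set_option maxRecDepth 100000 in
/-- A combination. -/
def cb23 : List (ℕ × ℤ) := [(0,.ofNat 908),(1,.ofNat 3026),(4,.negSucc 907),(5,.ofNat 2114),(6,.ofNat 2),(7,.ofNat 13766),(8,.negSucc 68),(12,.negSucc 3115),(13,.ofNat 1),(14,.negSucc 1207),(15,.ofNat 8007),(16,.ofNat 224),(19,.negSucc 4385),(21,.negSucc 5262),(25,.negSucc 1),(28,.ofNat 2179),(29,.ofNat 5838),(30,.ofNat 9148),(31,.ofNat 2891),(32,.negSucc 3028),(33,.ofNat 31855),(34,.ofNat 1208),(36,.ofNat 4574),(37,.negSucc 1682),(39,.ofNat 1208),(40,.negSucc 4573),(41,.negSucc 11702),(42,.negSucc 2147),(44,.ofNat 31855),(45,.ofNat 27),(46,.ofNat 2194),(48,.negSucc 1),(50,.negSucc 30844),(51,.negSucc 43466),(52,.negSucc 3718),(53,.ofNat 14840),(55,.negSucc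 603)]
set_option maxHeartbeats 0 in
set_option maxRecDepth 100000 in
theorem hcb23 : chkComb 20 31 rowsF 0 23 (0) cb23 = true := by decide +kernel
set_option maxRecDepth 100000 in
/-- A combination. -/
def cb24 : List (ℕ × ℤ) := [(0,.ofNat 52797846),(1,.ofNat 187637794),(2,.negSucc 1585647),(3,.ofNat 1007120),(4,.negSucc 44261165),(5,.ofNat 129715106),(6,.negSucc 87307),(7,.ofNat 832161494),(8,.negSucc 3986996),(9,.negSucc 1),(10,.negSucc 3513971),(11,.negSucc 2008937),(12,.negSucc 173807726),(13,.ofNat 130032),(14,.negSucc 75079545),(15,.ofNat 513518861),(16,.ofNat 8988193),(17,.negSucc 5021655),(19,.negSucc 270495699),(20,.negSucc 503691),(21,.negSucc 318683259),(22,.ofNat 3018018),(23,.ofNat 1884948),(24,.ofNat 2891062),(25,.negSucc 65017),(26,.ofNat 126956),(27,.ofNat 38192),(28,.ofNat 123752177),(29,.ofNat 345410842),(30,.ofNat 589284320),(31,.ofNat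 183747522),(32,.negSucc 196712303),(33,.ofNat 1961796854),(34,.ofNat 74575960),(35,.negSucc 125047),(36,.ofNat 290114126),(37,.negSucc 107750037),(38,.ofNat 106),(39,.ofNat 64247220),(40,.negSucc 294017871),(41,.negSucc 694040503),(42,.negSucc 132478252),(43,.negSucc 503903),(44,.ofNat 1960286148),(45,.ofNat 12768676),(46,.ofNat 138653259),(47,.ofNat 498816),(48,.negSucc 7728),(49,.negSucc 1045103),(50,.negSucc 1873411612),(51,.negSucc 2647120837),(52,.negSucc 230169961),(53,.ofNat 937046842),(54,.negSucc 105),(55,.negSucc 37287979)]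
set_option maxHeartbeats 0 in
set_option maxRecDepth 100000 in
theorem hcb24 : chkComb 20 31 rowsF 0 24 (0) cb24 = true := by decide +kernel
set_option maxRecDepth 100000 in
/-- A combination. -/
def cb25 : List (ℕ × ℤ) := [(0,.negSucc 998363),(1,.negSucc 3547442),(2,.ofNat 29878),(3,.negSucc 18977),(4,.ofNat 837484),(5,.negSucc 2452497),(6,.ofNat 1636),(7,.negSucc 15734266),(8,.ofNat 75394),(9,.negSucc 1),(10,.ofNat 66220),(11,.ofNat 37858),(12,.ofNat 3287211),(13,.negSucc 2448),(14,.ofNat 1419454),(15,.negSucc 9707660),(16,.negSucc 170213),(17,.ofNat 94632),(19,.ofNat 5114167),(20,.ofNat 9492),(21,.ofNat 6025535),(22,.negSucc 56873),(23,.negSucc 35522),(24,.negSucc 54480),(25,.ofNat 1224),(26,.negSucc 2392),(27,.negSucc 717),(28,.negSucc 2340371),(29,.negSucc 6531319),(30,.negSucc 11139775),(31,.negSucc 3473683),(32,.ofNat 3718466),(33,.negSucc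 37090914),(34,.negSucc 1409963),(35,.ofNat 2357),(36,.negSucc 5484557),(37,.ofNat 2036941),(38,.negSucc 1),(39,.negSucc 1215324),(40,.ofNat 5558123),(41,.ofNat 13123540),(42,.ofNat 2504702),(43,.ofNat 9496),(44,.negSucc 37062446),(45,.negSucc 240785),(46,.negSucc 2621261),(47,.negSucc 9399),(48,.ofNat 146),(49,.ofNat 19688),(50,.ofNat 35421309),(51,.ofNat 50049691),(52,.ofNat 4351633),(53,.negSucc 17715046),(54,.ofNat 2),(55,.ofNat 704982)]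
set_option maxHeartbeats 0 in
set_option maxRecDepth 100000 in
theorem hcb25 : chkComb 20 31 rowsF 0 25 (0) cb25 = true := by decide +kernel
set_option maxRecDepth 100000 in
/-- A combination. -/
def cb26 : List (ℕ × ℤ) := [(0,.negSucc 998137),(1,.negSucc 3546722),(2,.ofNat 29881),(3,.negSucc 18979),(4,.ofNat 837241),(5,.negSucc 2451995),(6,.ofNat 1637),(7,.negSucc 15730973),(8,.ofNat 75377),(9,.negSucc 1),(10,.ofNat 66227),(11,.ofNat 37862),(12,.ofNat 3286436),(13,.negSucc 2448),(14,.ofNat 1419169),(15,.negSucc 9705805),(16,.negSucc 170149),(17,.ofNat 94642),(19,.ofNat 5113131),(20,.ofNat 9493),(21,.ofNat 6024276),(22,.negSucc 56879),(23,.negSucc 35526),(24,.negSucc 54486),(25,.ofNat 1223),(26,.negSucc 2392),(27,.negSucc 717),(28,.negSucc 2339834),(29,.negSucc 6529905),(30,.negSucc 11137661),(31,.negSucc 3473010),(32,.ofNat 3717762),(33,.negSucc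 37083366),(34,.negSucc 1409677),(35,.ofNat 2357),(36,.negSucc 5483491),(37,.ofNat 2036551),(38,.negSucc 1),(39,.negSucc 1215018),(40,.ofNat 5557065),(41,.ofNat 13120712),(42,.ofNat 2504194),(43,.ofNat 9497),(44,.negSucc 37054895),(45,.negSucc 240804),(46,.negSucc 2620749),(47,.negSucc 9400),(48,.ofNat 146),(49,.ofNat 19690),(50,.ofNat 35413943),(51,.ofNat 50039329),(52,.ofNat 4350753),(53,.negSucc 17711583),(54,.ofNat 2),(55,.ofNat 704839)]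
set_option maxHeartbeats 0 in
set_option maxRecDepth 100000 in
theorem hcb26 : chkComb 20 31 rowsF 0 26 (0) cb26 = true := by decide +kernel
set_option maxRecDepth 100000 in
/-- A combination. -/
def cb27 : List (ℕ × ℤ) := [(0,.ofNat 498437),(1,.ofNat 1771032),(2,.negSucc 14898),(3,.ofNat 9463),(4,.negSucc 418221),(5,.ofNat 1224428),(6,.negSucc 810),(7,.ofNat 7855630),(8,.negSucc 37642),(10,.negSucc 33018),(11,.negSucc 18876),(12,.negSucc 1641372),(13,.ofNat 1222),(14,.negSucc 708657),(15,.ofNat 4846389),(16,.ofNat 85025),(17,.negSucc 47185),(18,.negSucc 3),(19,.negSucc 2553288),(20,.negSucc 4728),(21,.negSucc 3008333),(22,.ofNat 28359),(23,.ofNat 17712),(24,.ofNat 27166),(25,.negSucc 612),(26,.ofNat 1193),(27,.ofNat 358),(28,.ofNat 1168561),(29,.ofNat 3260935),(30,.ofNat 5561322),(31,.ofNat 1734199),(32,.negSucc 1856309),(33,.ofNat 18517831),(34,.ofNat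 703926),(35,.negSucc 1174),(36,.ofNat 2738113),(37,.negSucc 1016914),(38,.ofNat 1),(39,.ofNat 606873),(40,.negSucc 2774794),(41,.negSucc 6552319),(42,.negSucc 1250478),(43,.negSucc 4734),(44,.ofNat 18503640),(45,.ofNat 120114),(46,.ofNat 1308648),(47,.ofNat 4687),(48,.negSucc 79),(49,.negSucc 9818),(50,.negSucc 17684521),(51,.negSucc 24987866),(52,.negSucc 2172560),(53,.ofNat 8844117),(54,.negSucc 0),(55,.negSucc 351964)]
set_option maxHeartbeats 0 in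
set_option maxRecDepth 100000 in
theorem hcb27 : chkComb 20 31 rowsF 0 27 (0) cb27 = true := by decide +kernel
set_option maxRecDepth 100000 in
/-- A combination. -/
def cb28 : List (ℕ × ℤ) := [(0,.negSucc 998083),(1,.negSucc 3546621),(2,.ofNat 29903),(3,.negSucc 18993),(4,.ofNat 837068),(5,.negSucc 2451879),(6,.ofNat 1642),(7,.negSucc 15730033),(8,.ofNat 75371),(9,.negSucc 1),(10,.ofNat 66276),(11,.ofNat 37890),(12,.ofNat 3286026),(13,.negSucc 2450),(14,.ofNat 1419118),(15,.negSucc 9705649),(16,.negSucc 170083),(17,.ofNat 94712),(18,.negSucc 1),(19,.ofNat 5112887),(20,.ofNat 9502),(21,.ofNat 6023936),(22,.negSucc 56921),(23,.negSucc 35552),(24,.negSucc 54526),(25,.ofNat 1225),(26,.negSucc 2394),(27,.negSucc 718),(28,.negSucc 2339579),(29,.negSucc 6529446),(30,.negSucc 11137521),(31,.negSucc 3472933),(32,.ofNat 3717785),(33,.negSucc 37081701),(34,.negSucc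 1409619),(35,.ofNat 2359),(36,.negSucc 5483358),(37,.ofNat 2036513),(38,.negSucc 1),(39,.negSucc 1214816),(40,.ofNat 5556986),(41,.ofNat 13119742),(42,.ofNat 2504086),(43,.ofNat 9504),(44,.negSucc 37053207),(45,.negSucc 240924),(46,.negSucc 2620673),(47,.negSucc 9407),(48,.ofNat 144),(49,.ofNat 19705),(50,.ofNat 35412043),(51,.ofNat 50036730),(52,.ofNat 4350583),(53,.negSucc 17711066),(54,.ofNat 2),(55,.ofNat 704809)]
set_option maxHeartbeats 0 in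
set_option maxRecDepth 100000 in
theorem hcb28 : chkComb 20 31 rowsF 0 28 (0) cb28 = true := by decide +kernel
set_option maxRecDepth 100000 in
/-- A combination. -/
def cb29 : List (ℕ × ℤ) := [(0,.negSucc 499039),(1,.negSucc 1773335),(2,.ofNat 14945),(3,.negSucc 9492),(4,.ofNat 418567),(5,.negSucc 1225986),(6,.ofNat 820),(7,.negSucc 7865382),(8,.ofNat 37687),(9,.negSucc 0),(10,.ofNat 33123),(11,.ofNat 18937),(12,.ofNat 1643150),(13,.negSucc 1224),(14,.ofNat 709581),(15,.negSucc 4852936),(16,.negSucc 85054),(17,.ofNat 47335),(19,.ofNat 2556558),(20,.ofNat 4748),(21,.ofNat 3012095),(22,.negSucc 28448),(23,.negSucc 17767),(24,.negSucc 27251),(25,.ofNat 611),(26,.negSucc 1195),(27,.negSucc 358),(28,.negSucc 1169878),(29,.negSucc 3264866),(30,.negSucc 5568876),(31,.negSucc 1736512),(32,.ofNat 1858879),(33,.negSucc 18541560),(34,.negSucc 704833),(35,.ofNat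 1179),(36,.negSucc 2741755),(37,.ofNat 1018283),(38,.negSucc 0),(39,.negSucc 607474),(40,.ofNat 2778554),(41,.ofNat 6560221),(42,.ofNat 1252087),(43,.ofNat 4750),(44,.negSucc 18527320),(45,.negSucc 120446),(46,.negSucc 1310380),(47,.negSucc 4701),(48,.ofNat 72),(49,.ofNat 9848),(50,.ofNat 17706741),(51,.ofNat 25019366),(52,.ofNat 2175361),(53,.negSucc 8855828),(54,.ofNat 1),(55,.ofNat 352417)]
set_option maxHeartbeats 0 in
set_option maxRecDepth 100000 in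
theorem hcb29 : chkComb 20 31 rowsF 0 29 (0) cb29 = true := by decide +kernel
set_option maxRecDepth 100000 in
/-- A combination. -/
def cb30 : List (ℕ × ℤ) := [(0,.ofNat 319784903),(1,.ofNat 1136477261),(2,.negSucc 9603345),(3,.ofNat 6099540),(4,.negSucc 268083118),(5,.ofNat 785654126),(6,.negSucc 528719),(7,.ofNat 5040212193),(8,.negSucc 24148379),(9,.negSucc 1),(10,.negSucc 21282099),(11,.negSucc 12166977),(12,.negSucc 1052718736),(13,.ofNat 787522),(14,.negSucc 454738953),(15,.ofNat 3110256510),(16,.ofNat 54440908),(17,.negSucc 30413271),(18,.negSucc 3),(19,.negSucc 1638329107),(20,.negSucc 3050567),(21,.negSucc 1930191531),(22,.ofNat 18278394),(23,.ofNat 11416050),(24,.ofNat 17509492),(25,.negSucc 393761),(26,.ofNat 768902),(27,.ofNat 231298),(28,.ofNat 749541454),(29,.ofNat 2092076753),(30,.ofNat 3569148188),(31,.ofNat 1112913690),(32,.negSucc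 1191436416),(33,.ofNat 11882143544),(34,.ofNat 451689024),(35,.negSucc 757345),(36,.ofNat 1757150404),(37,.negSucc 652615359),(38,.ofNat 642),(39,.ofNat 389133822),(40,.negSucc 1780793139),(41,.negSucc 4203649442),(42,.negSucc 802389642),(43,.negSucc 3051855),(44,.ofNat 11872994078),(45,.ofNat 77333426),(46,.ofNat 839789176),(47,.ofNat 3021040),(48,.negSucc 46818),(49,.negSucc 6329557),(50,.negSucc 11346822904),(51,.negSucc 16032999205),(52,.negSucc 1394084947),(53,.ofNat 5675465705),(54,.negSucc 641),(55,.negSucc 225844513)]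
set_option maxHeartbeats 0 in
set_option maxRecDepth 100000 in
theorem hcb30 : chkComb 20 31 rowsF 0 30 (0) cb30 = true := by decide +kernel

theorem hcert : ∀ q, q < 31 → ∃ (a : ℤ) (L : List (ℕ × ℤ)), chkComb 20 31 rowsF 0 q a L = true ∧ (q = 0 → a = 1 - ((1 : ℕ) : ℤ)) := by
  intro q hq
  interval_cases q
  · exact ⟨0, cb0, hcb0, by norm_num⟩
  · exact ⟨0, cb1, hcb1, by norm_num⟩
  · exact ⟨0, cb2, hcb2, by norm_num⟩
  · exact ⟨0, cb3, hcb3, by norm_num⟩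
  · exact ⟨0, cb4, hcb4, by norm_num⟩
  · exact ⟨0, cb5, hcb5, by norm_num⟩
  · exact ⟨0, cb6, hcb6, by norm_num⟩
  · exact ⟨0, cb7, hcb7, by norm_num⟩
  · exact ⟨0, cb8, hcb8, by norm_num⟩
  · exact ⟨0, cb9, hcb9, by norm_num⟩
  · exact ⟨0, cb10, hcb10, by norm_num⟩
  · exact ⟨0, cb11, hcb11, by norm_num⟩
  · exact ⟨0, cb12, hcb12, by norm_num⟩
  · exact ⟨0, cb13, hcb13, by norm_num⟩
  · exact ⟨0, cb14, hcb14, by norm_num⟩
  · exact ⟨0, cb15, hcb15, by norm_num⟩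
  · exact ⟨0, cb16, hcb16, by norm_num⟩
  · exact ⟨0, cb17, hcb17, by norm_num⟩
  · exact ⟨0, cb18, hcb18, by norm_num⟩
  · exact ⟨0, cb19, hcb19, by norm_num⟩
  · exact ⟨0, cb20, hcb20, by norm_num⟩
  · exact ⟨0, cb21, hcb21, by norm_num⟩
  · exact ⟨0, cb22, hcb22, by norm_num⟩
  · exact ⟨0, cb23, hcb23, by norm_num⟩
  · exact ⟨0, cb24, hcb24, by norm_num⟩
  · exact ⟨0, cb25, hcb25, by norm_num⟩
  · exact ⟨0, cb26, hcb26, by norm_num⟩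
  · exact ⟨0, cb27, hcb27, by norm_num⟩
  · exact ⟨0, cb28, hcb28, by norm_num⟩
  · exact ⟨0, cb29, hcb29, by norm_num⟩
  · exact ⟨0, cb30, hcb30, by norm_num⟩


end Cfsg.Agent.Lib.KnownSimple.MultM.M23V
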