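import Cfsg.Agent.Lib.KnownSimple.MultM.M23V.Pres
import Cfsg.Agent.Lib.KnownSimple.MultM.M23V.Data4_0

/-!
# A coset enumeration
-/

set_option autoImplicit false

namespace Cfsg.Agent.Lib.KnownSimple.MultM.M23V

open Cfsg Cfsg.Spor Cfsg.Agent.Lib.Compute Cfsg.Agent.Lib.KnownSimple.PE Cfsg.Agent.Lib.KnownSimple.Leech
open Cfsg.Agent.Lib.KnownSimple Cfsg.Agent.Lib.KnownSimple.AutRigid Cfsg.Agent.Lib.KnownSimple.Pres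

/-- A coset enumeration. -/
noncomputable def C4 : Cert where
  eL := 99
  ig := fun a => a
  words := [[], [0, 0], [1, 1], [2, 2], [3, 3], [4, 4], [5, 5], [0, 1, 0, 1, 0, 1, 0, 1], [1, 0, 1, 0, 1, 0, 1, 0], [0, 2, 0, 2, 0, 2, 0, 2], [2, 0, 2, 0, 2, 0, 2, 0], [0, 3, 0, 3, 0, 3, 0, 3, 0, 3, 0, 3], [3, 0, 3, 0, 3, 0, 3, 0, 3, 0, 3, 0], [0, 4, 0, 4, 0, 4, 0, 4], [4, 0, 4, 0, 4, 0, 4, 0], [0, 5, 0, 5, 0, 5, 0, 5], [5, 0, 5, 0, 5, 0, 5, 0], [1, 2, 1, 2, 1, 2], [2, 1, 2, 1, 2, 1], [1, 3, 1, 3, 1, 3, 1, 3], [3, 1, 3, 1, 3, 1, 3, 1], [1, 4, 1, 4, 1, 4, 1, 4, 1, 4, 1, 4], [4, 1, 4, 1, 4, 1, 4, 1, 4, 1, 4, 1], [1, 5, 1, 5, 1, 5, 1, 5], [5, 1, 5, 1, 5, 1, 5, 1], [2, 3, 2, 3], [3, 2, 3,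 2], [2, 4, 2, 4, 2, 4, 2, 4, 2, 4, 2, 4], [4, 2, 4, 2, 4, 2, 4, 2, 4, 2, 4, 2], [2, 5, 2, 5, 2, 5, 2, 5, 2, 5], [5, 2, 5, 2, 5, 2, 5, 2, 5, 2], [3, 4, 3, 4, 3, 4, 3, 4, 3, 4], [4, 3, 4, 3, 4, 3, 4, 3, 4, 3], [3, 5, 3, 5, 3, 5, 3, 5, 3, 5, 3, 5], [5, 3, 5, 3, 5, 3, 5, 3, 5, 3, 5, 3], [4, 5, 4, 5, 4, 5, 4, 5, 4, 5, 4, 5], [5, 4, 5, 4, 5, 4, 5, 4, 5, 4, 5, 4], [0, 1, 2, 1, 0, 2, 0, 1, 2, 1, 0, 2], [1, 2, 1, 0, 2, 0, 1, 2, 1, 0, 2, 0], [2, 1, 0, 2, 0, 1, 2, 1, 0, 2, 0, 1], [1, 0, 2, 0, 1, 2, 1, 0, 2, 0, 1, 2], [0, 2, 0, 1, 2, 1, 0, 2, 0, 1, 2, 1], [2, 0, 1, 2, 1, 0, 2, 0, 1, 2, 1, 0], [0, 1, 2, 0, 1, 2, 1, 0, 2, 1, 0, 1, 2, 1], [1, 2, 0, 1, 2, 1, 0, 2, 1, 0, 1, 2, 1, 0], [2, 0, 1,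 2, 1, 0, 2, 1, 0, 1, 2, 1, 0, 1], [0, 1, 2, 1, 0, 2, 1, 0, 1, 2, 1, 0, 1, 2], [1, 2, 1, 0, 2, 1, 0, 1, 2, 1, 0, 1, 2, 0], [2, 1, 0, 2, 1, 0, 1, 2, 1, 0, 1, 2, 0, 1], [1, 0, 2, 1, 0, 1, 2, 1, 0, 1, 2, 0, 1, 2], [0, 2, 1, 0, 1, 2, 1, 0, 1, 2, 0, 1, 2, 1], [2, 1, 0, 1, 2, 1, 0, 1, 2, 0, 1, 2, 1, 0], [1, 0, 1, 2, 1, 0, 1, 2, 0, 1, 2, 1, 0, 2], [0, 1, 2, 1, 0, 1, 2, 0, 1, 2, 1, 0, 2, 1], [1, 2, 1, 0, 1, 2, 0, 1, 2, 1, 0, 2, 1, 0], [2, 1, 0, 1, 2, 0, 1, 2, 1, 0, 2, 1, 0, 1], [1, 0, 1, 2, 0, 1, 2, 1, 0, 2, 1, 0, 1, 2], [0, 1, 3, 0, 3, 0, 3, 1, 3, 1, 3], [1, 3, 0, 3, 0, 3, 1, 3, 1, 3, 0], [3, 0, 3, 0, 3, 1, 3, 1, 3, 0, 1], [0, 3, 0, 3, 1, 3, 1, 3, 0, 1, 3], [3, 0, 3, 1, 3, 1, 3, 0, 1,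 3, 0], [0, 3, 1, 3, 1, 3, 0, 1, 3, 0, 3], [3, 1, 3, 1, 3, 0, 1, 3, 0, 3, 0], [1, 3, 1, 3, 0, 1, 3, 0, 3, 0, 3], [3, 1, 3, 0, 1, 3, 0, 3, 0, 3, 1], [1, 3, 0, 1, 3, 0, 3, 0, 3, 1, 3], [3, 0, 1, 3, 0, 3, 0, 3, 1, 3, 1], [0, 1, 2, 1, 3, 1, 2, 0, 3, 1, 3], [1, 2, 1, 3, 1, 2, 0, 3, 1, 3, 0], [2, 1, 3, 1, 2, 0, 3, 1, 3, 0, 1], [1, 3, 1, 2, 0, 3, 1, 3, 0, 1, 2], [3, 1, 2, 0, 3, 1, 3, 0, 1, 2, 1], [1, 2, 0, 3, 1, 3, 0, 1, 2, 1, 3], [2, 0, 3, 1, 3, 0, 1, 2, 1, 3, 1], [0, 3, 1, 3, 0, 1, 2, 1, 3, 1, 2], [3, 1, 3, 0, 1, 2, 1, 3, 1, 2, 0], [1, 3, 0, 1, 2, 1, 3, 1, 2, 0, 3], [3, 0, 1, 2, 1, 3, 1, 2, 0, 3, 1], [0, 2, 4, 2, 3, 0, 3, 0, 4, 1, 4], [2, 4, 2, 3, 0, 3, 0, 4, 1, 4, 0], [4, 2, 3, 0,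 3, 0, 4, 1, 4, 0, 2], [2, 3, 0, 3, 0, 4, 1, 4, 0, 2, 4], [3, 0, 3, 0, 4, 1, 4, 0, 2, 4, 2], [0, 3, 0, 4, 1, 4, 0, 2, 4, 2, 3], [3, 0, 4, 1, 4, 0, 2, 4, 2, 3, 0], [0, 4, 1, 4, 0, 2, 4, 2, 3, 0, 3], [4, 1, 4, 0, 2, 4, 2, 3, 0, 3, 0], [1, 4, 0, 2, 4, 2, 3, 0, 3, 0, 4], [4, 0, 2, 4, 2, 3, 0, 3, 0, 4, 1], [4, 1, 3, 4, 0, 3, 4, 0, 2, 0, 1, 2, 1], [1, 3, 4, 0, 3, 4, 0, 2, 0, 1, 2, 1, 4], [3, 4, 0, 3, 4, 0, 2, 0, 1, 2, 1, 4, 1], [4, 0, 3, 4, 0, 2, 0, 1, 2, 1, 4, 1, 3], [0, 3, 4, 0, 2, 0, 1, 2, 1, 4, 1, 3, 4], [3, 4, 0, 2, 0, 1, 2, 1, 4, 1, 3, 4, 0], [4, 0, 2, 0, 1, 2, 1, 4, 1, 3, 4, 0, 3], [0, 2, 0, 1, 2, 1, 4, 1, 3, 4, 0, 3, 4], [2, 0, 1, 2, 1, 4, 1, 3, 4, 0, 3, 4, 0], [0, 1, 2, 1,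 4, 1, 3, 4, 0, 3, 4, 0, 2], [1, 2, 1, 4, 1, 3, 4, 0, 3, 4, 0, 2, 0], [2, 1, 4, 1, 3, 4, 0, 3, 4, 0, 2, 0, 1], [1, 4, 1, 3, 4, 0, 3, 4, 0, 2, 0, 1, 2], [0, 1, 0, 1, 5, 1, 0, 5, 1, 5, 0, 5], [1, 0, 1, 5, 1, 0, 5, 1, 5, 0, 5, 0], [0, 1, 5, 1, 0, 5, 1, 5, 0, 5, 0, 1], [1, 5, 1, 0, 5, 1, 5, 0, 5, 0, 1, 0], [5, 1, 0, 5, 1, 5, 0, 5, 0, 1, 0, 1], [1, 0, 5, 1, 5, 0, 5, 0, 1, 0, 1, 5], [0, 5, 1, 5, 0, 5, 0, 1, 0, 1, 5, 1], [5, 1, 5, 0, 5, 0, 1, 0, 1, 5, 1, 0], [1, 5, 0, 5, 0, 1, 0, 1, 5, 1, 0, 5], [5, 0, 5, 0, 1, 0, 1, 5, 1, 0, 5, 1], [0, 5, 0, 1, 0, 1, 5, 1, 0, 5, 1, 5], [5, 0, 1, 0, 1, 5, 1, 0, 5, 1, 5, 0], [0, 1, 0, 5, 4, 2, 4, 3, 4, 2, 4, 5], [1, 0, 5, 4, 2, 4, 3, 4, 2, 4, 5, 0], [0,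 5, 4, 2, 4, 3, 4, 2, 4, 5, 0, 1], [5, 4, 2, 4, 3, 4, 2, 4, 5, 0, 1, 0], [4, 2, 4, 3, 4, 2, 4, 5, 0, 1, 0, 5], [2, 4, 3, 4, 2, 4, 5, 0, 1, 0, 5, 4], [4, 3, 4, 2, 4, 5, 0, 1, 0, 5, 4, 2], [3, 4, 2, 4, 5, 0, 1, 0, 5, 4, 2, 4], [4, 2, 4, 5, 0, 1, 0, 5, 4, 2, 4, 3], [2, 4, 5, 0, 1, 0, 5, 4, 2, 4, 3, 4], [4, 5, 0, 1, 0, 5, 4, 2, 4, 3, 4, 2], [5, 0, 1, 0, 5, 4, 2, 4, 3, 4, 2, 4], [0, 1, 2, 0, 1, 3, 0, 1, 4, 0, 4, 3], [1, 2, 0, 1, 3, 0, 1, 4, 0, 4, 3, 0], [2, 0, 1, 3, 0, 1, 4, 0, 4, 3, 0, 1], [0, 1, 3, 0, 1, 4, 0, 4, 3, 0, 1, 2], [1, 3, 0, 1, 4, 0, 4, 3, 0, 1, 2, 0], [3, 0, 1, 4, 0, 4, 3, 0, 1, 2, 0, 1], [0, 1, 4, 0, 4, 3, 0, 1, 2, 0, 1, 3], [1, 4, 0, 4, 3, 0, 1, 2, 0, 1, 3, 0], [4,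 0, 4, 3, 0, 1, 2, 0, 1, 3, 0, 1], [0, 4, 3, 0, 1, 2, 0, 1, 3, 0, 1, 4], [4, 3, 0, 1, 2, 0, 1, 3, 0, 1, 4, 0], [3, 0, 1, 2, 0, 1, 3, 0, 1, 4, 0, 4], [0, 3, 0, 5, 2, 5, 1, 3, 1, 5, 2, 5], [3, 0, 5, 2, 5, 1, 3, 1, 5, 2, 5, 0], [0, 5, 2, 5, 1, 3, 1, 5, 2, 5, 0, 3], [5, 2, 5, 1, 3, 1, 5, 2, 5, 0, 3, 0], [2, 5, 1, 3, 1, 5, 2, 5, 0, 3, 0, 5], [5, 1, 3, 1, 5, 2, 5, 0, 3, 0, 5, 2], [1, 3, 1, 5, 2, 5, 0, 3, 0, 5, 2, 5], [3, 1, 5, 2, 5, 0, 3, 0, 5, 2, 5, 1], [1, 5, 2, 5, 0, 3, 0, 5, 2, 5, 1, 3], [5, 2, 5, 0, 3, 0, 5, 2, 5, 1, 3, 1], [2, 5, 0, 3, 0, 5, 2, 5, 1, 3, 1, 5], [5, 0, 3, 0, 5, 2, 5, 1, 3, 1, 5, 2]]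
  sub := fun x => Nat.blt x 5
  par := pgetT 14 16383 par4
  gix := pgetT 3 7 gix4
  dp := pgetT 4 15 dp4
  fa := pgetT 15 32767 fa4
  fl := pgetT 7 127 fl4
  fb := pgetT 15 32767 fb4
  fk := pgetT 8 255 fk4
  po := pgetT 18 262143 po4
  pc := pgetT 4 15 pc4
  pa := pgetT 18 262143 pa4
  can := pget 12 4095 can4
  t := cns (pget 8 255 tb4_0) (cns (pget 8 255 tb4_1) (cns (pget 8 255 tb4_2) (cns (pget 8 255 tb4_3) (cns (pget 8 255 tb4_4) (cns (pget 8 255 tb4_5) (fun _ => 0))))))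
  fid := cns (pget 17 131071 fi4_0) (cns (pget 17 131071 fi4_1) (cns (pget 17 131071 fi4_2) (cns (pget 17 131071 fi4_3) (cns (pget 17 131071 fi4_4) (cns (pget 17 131071 fi4_5) (fun _ => 0))))))

/-- The number of facts. -/
abbrev K4 : ℕ := 68320

set_option maxRecDepth 100000 in
theorem words4 : wordsOK ([] :: S.L.relW) C4.words = true := by decide +kernel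

end Cfsg.Agent.Lib.KnownSimple.MultM.M23V
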